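import Groth.Agent.UHomeoLib.Descent
import Groth.Agent.EtInvLib.Glue
import Groth.Agent.EtInvLib.Finite
import Groth.Agent.EtInvLib.Equiv
import Mathlib.RingTheory.Unramified.LocalStructure
import Mathlib.AlgebraicGeometry.Morphisms.Etale

/-!
# Étale schemes lift locally along universal homeomorphisms
-/

set_option autoImplicit false
set_option linter.style.haveILetI false
universe u

open CategoryTheory CategoryTheory.Limits AlgebraicGeometry TensorProduct

noncomputable section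

namespace UHomeo

/-- An étale morphism is standard étale on a small affine around a given point, over any affine. -/
theorem exists_standardEtale {X Y : Scheme.{u}} (g : X ⟶ Y) [Etale g] {V : Y.Opens} (hV : IsAffineOpen V)
    (x : X) (hxV : g x ∈ V) :
    ∃ (U : X.Opens) (e : U ≤ g ⁻¹ᵁ V), IsAffineOpen U ∧ x ∈ U ∧
      (letI := (g.appLE V U e).hom.toAlgebra; Algebra.IsStandardEtale Γ(Y, V) Γ(X, U)) := by
  obtain ⟨U, hU, hxU, e⟩ := exists_isAffineOpen_mem_and_subset (x := x) (U := g ⁻¹ᵁ V) hxV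
  letI := (g.appLE V U e).hom.toAlgebra
  haveI : Algebra.Etale Γ(Y, V) Γ(X, U) := g.etale_appLE hV hU e
  obtain ⟨f, hf, hstd⟩ := Algebra.IsEtaleAt.exists_isStandardEtale (R := Γ(Y, V))
    (hU.primeIdealOf ⟨x, hxU⟩).asIdeal
  have hxf : x ∈ X.basicOpen f := by
    have h1 : hU.primeIdealOf ⟨x, hxU⟩ ∈ PrimeSpectrum.basicOpen f := hf
    have h2 : hU.primeIdealOf ⟨x, hxU⟩ ∈ hU.fromSpec ⁻¹ᵁ X.basicOpen f := by
      rw [hU.fromSpec_preimage_basicOpen]; exact h1
    have h3 : hU.fromSpec (hU.primeIdealOf ⟨x, hxU⟩) ∈ X.basicOpen f := h2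
    rwa [hU.fromSpec_primeIdealOf] at h3
  have e' : X.basicOpen f ≤ g ⁻¹ᵁ V := (X.basicOpen_le f).trans e
  refine ⟨X.basicOpen f, e', hU.basicOpen f, hxf, ?_⟩
  letI := (g.appLE V (X.basicOpen f) e').hom.toAlgebra
  haveI : IsScalarTower Γ(Y, V) Γ(X, U) Γ(X, X.basicOpen f) := IsScalarTower.of_algebraMap_eq fun a => by
    show g.appLE V (X.basicOpen f) e' a = X.presheaf.map (homOfLE (X.basicOpen_le f)).op (g.appLE V U e a)
    rw [← ConcreteCategory.comp_apply, Scheme.Hom.appLE_map]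
  haveI := hU.isLocalization_basicOpen f
  exact Algebra.IsStandardEtale.of_equiv
    ((IsLocalization.algEquiv (.powers f) (Localization.Away f) Γ(X, X.basicOpen f)).restrictScalars Γ(Y, V))

theorem isPushout_standardEtale {B₀ B C : Type u} [CommRing B₀] [CommRing B] [CommRing C] [Algebra B₀ B]
    [Algebra B C] (P : StandardEtalePresentation B C) (P₀ : StandardEtalePair B₀)
    (h : P₀.map (algebraMap B₀ B) = P.P) :
    ∃ k : P₀.Ring →+* C, CategoryTheory.IsPushout (CommRingCat.ofHom (algebraMap B₀ B))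
      (CommRingCat.ofHom (algebraMap B₀ P₀.Ring)) (CommRingCat.ofHom (algebraMap B C)) (CommRingCat.ofHom k) := by
  let Q : StandardEtalePresentation B₀ P₀.Ring :=
    ⟨P₀, P₀.X, P₀.hasMap_X, by simpa [StandardEtalePair.lift_X_left] using Function.bijective_id⟩
  have eQ : (Q.baseChange (T := B)).P = P.P := h
  let e : (B ⊗[B₀] P₀.Ring) ≃ₐ[B] C :=
    ((Q.baseChange (T := B)).equivRing.trans (by rw [eQ])).trans P.equivRing.symm
  refine ⟨e.toRingHom.comp Algebra.TensorProduct.includeRight.toRingHom, ?_⟩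
  refine (CommRingCat.isPushout_tensorProduct B₀ B P₀.Ring).of_iso (Iso.refl _) (Iso.refl _) (Iso.refl _)
    e.toRingEquiv.toCommRingCatIso (by simp) (by simp) ?_ ?_
  · ext b
    show e (b ⊗ₜ[B₀] (1 : P₀.Ring)) = algebraMap B C b
    exact e.commutes b
  · ext y
    rfl

theorem exists_liftData {S S₀ X₀ : Scheme.{u}} (i : S₀ ⟶ S) [IsIntegralHom i] [UniversallyInjective i]
    [Surjective i] (x₀ : X₀ ⟶ S₀) [Etale x₀] (x : X₀) :
    ∃ V : X₀.Opens, x ∈ V ∧ Nonempty (EtInvLib.LiftData i x₀ V) := by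
  obtain ⟨U, hU, hxU, -⟩ := exists_isAffineOpen_mem_and_subset (x := i (x₀ x)) (U := ⊤) trivial
  let U₀ := i ⁻¹ᵁ U
  have hU₀ : IsAffineOpen U₀ := hU.preimage i
  obtain ⟨V, hVU, hV, hxV, hstd⟩ := exists_standardEtale x₀ hU₀ x hxU
  let φ := i.app U
  let ψ := x₀.appLE U₀ V hVU
  letI := ψ.hom.toAlgebra
  haveI : Algebra.IsStandardEtale Γ(S₀, U₀) Γ(X₀, V) := hstd
  obtain ⟨P⟩ := (inferInstance : Nonempty (StandardEtalePresentation Γ(S₀, U₀) Γ(X₀, V)))
  have hfs : Spec.map φ ≫ hU.fromSpec = hU₀.fromSpec ≫ i := by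
    rw [show φ = i.appLE U U₀ le_rfl from (Scheme.Hom.appLE_eq_app i).symm]
    exact IsAffineOpen.SpecMap_appLE_fromSpec i hU hU₀ le_rfl
  have hpbU : IsPullback hU₀.fromSpec (Spec.map φ) i hU.fromSpec := by
    refine (IsOpenImmersion.isPullback (Spec.map φ) hU₀.fromSpec hU.fromSpec i hfs.symm ?_).flip
    rw [IsAffineOpen.opensRange_fromSpec, IsAffineOpen.opensRange_fromSpec]
  haveI : UniversallyInjective (Spec.map φ) :=
    MorphismProperty.of_isPullback (P := @UniversallyInjective) hpbU ‹_›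
  haveI : Surjective (Spec.map φ) := MorphismProperty.of_isPullback (P := @Surjective) hpbU ‹_›
  have hnil : RingHom.ker φ.hom ≤ nilradical Γ(S, U) := by
    intro a ha
    rw [nilradical_eq_sInf]
    refine Ideal.mem_sInf.mpr fun Q hQ => ?_
    haveI : Q.IsPrime := hQ
    obtain ⟨q, hq⟩ := (Spec.map φ).surjective ⟨Q, hQ⟩
    have hq' : q.asIdeal.comap φ.hom = Q := congrArg PrimeSpectrum.asIdeal hq
    rw [← hq', Ideal.mem_comap, RingHom.mem_ker.mp ha]
    exact zero_mem _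
  have hint : φ.hom.IsIntegral := IsIntegralHom.isIntegral_app i U hU
  haveI : UniversallyInjective (Spec.map (CommRingCat.ofHom φ.hom)) := ‹_›
  obtain ⟨A₀, B₀, _, _, _, φ₀, a, b, hb, hfin, hrad₀, hker₀, P₀, hP₀⟩ :=
    exists_noetherian_model φ.hom hint (rad_of_universallyInjective φ.hom) hnil P.P
  letI := b.toAlgebra
  obtain ⟨k, hk⟩ := isPushout_standardEtale P P₀ hP₀
  let i₀ : Spec (CommRingCat.of B₀) ⟶ Spec (CommRingCat.of A₀) := Spec.map (CommRingCat.ofHom φ₀)
  haveI : IsFinite i₀ := (IsFinite.SpecMap_iff _).mpr hfin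
  haveI : UniversallyInjective i₀ := universallyInjective_of_rad φ₀ hrad₀
  haveI : Surjective i₀ := by
    refine ⟨fun Q => ?_⟩
    letI := φ₀.toAlgebra
    haveI : Algebra.IsIntegral A₀ B₀ := ⟨hfin.to_isIntegral⟩
    obtain ⟨q, -, hq, hqQ⟩ := Ideal.exists_ideal_over_prime_of_isIntegral Q.asIdeal (⊥ : Ideal B₀)
      (by rw [← RingHom.ker_eq_comap_bot]; exact hker₀.trans (nilradical_le_prime Q.asIdeal))
    exact ⟨⟨q, hq⟩, PrimeSpectrum.ext hqQ⟩
  haveI : IsLocallyNoetherian (Spec (CommRingCat.of A₀)) := inferInstance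
  haveI : Etale (Spec.map (CommRingCat.ofHom (algebraMap B₀ P₀.Ring))) :=
    HasRingHomProperty.Spec_iff.mpr (RingHom.etale_algebraMap.mpr inferInstance)
  let V₀ : Over (Spec (CommRingCat.of B₀)) := Over.mk (Spec.map (CommRingCat.ofHom (algebraMap B₀ P₀.Ring)))
  haveI : Etale V₀.hom := ‹_›
  haveI : QuasiCompact V₀.hom := inferInstanceAs (QuasiCompact (Spec.map _))
  haveI : IsSeparated V₀.hom := inferInstanceAs (IsSeparated (Spec.map _))
  obtain ⟨U', c, hU', hc⟩ := exists_descended i₀ V₀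
  have h1 := (isPullback_SpecMap_of_isPushout _ _ _ _ hk).flip
  have h2 := h1.paste_horiz hc
  have hw : Spec.map (CommRingCat.ofHom b) ≫ i₀ = Spec.map φ ≫ Spec.map (CommRingCat.ofHom a) := by
    rw [← Spec.map_comp, ← Spec.map_comp]
    congr 1
    exact CommRingCat.hom_ext hb
  change IsPullback _ _ _ (Spec.map (CommRingCat.ofHom b) ≫ i₀) at h2
  rw [hw] at h2
  let p := pullback.snd U'.hom (Spec.map (CommRingCat.ofHom a))
  let c' : Spec Γ(X₀, V) ⟶ pullback U'.hom (Spec.map (CommRingCat.ofHom a)) :=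
    pullback.lift (Spec.map (CommRingCat.ofHom k) ≫ c) (Spec.map ψ ≫ Spec.map φ) (by
      exact h2.w.trans (Category.assoc _ _ _).symm)
  have h3 : IsPullback c' (Spec.map ψ) p (Spec.map φ) := by
    refine IsPullback.of_right ?_ (pullback.lift_snd _ _ _) (IsPullback.of_hasPullback _ _)
    rw [pullback.lift_fst]
    exact h2
  have h4 := h3.paste_vert hpbU.flip
  haveI : Etale p := MorphismProperty.pullback_snd _ _ hU'
  refine ⟨V, hxV, ⟨⟨_, p ≫ hU.fromSpec, inferInstance, hV.isoSpec.hom ≫ c', ?_⟩⟩⟩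
  have hψ : Spec.map ψ ≫ hU₀.fromSpec = hV.fromSpec ≫ x₀ := IsAffineOpen.SpecMap_appLE_fromSpec x₀ hU₀ hV hVU
  rw [hψ] at h4
  refine h4.of_iso hV.isoSpec.symm (Iso.refl _) (Iso.refl _) (Iso.refl _) ?_ ?_ ?_ ?_
  · simp
  · simp only [Iso.symm_hom, Iso.refl_hom, Category.comp_id]
    rw [← IsAffineOpen.isoSpec_inv_ι, Category.assoc]
  · simp
  · simp

end UHomeo
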