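import Mathlib.AlgebraicGeometry.Morphisms.UniversallyInjective
import Mathlib.FieldTheory.IsAlgClosed.AlgebraicClosure
import Mathlib.RingTheory.Ideal.GoingUp

/-!
# Radicial ring maps, through field-valued points
-/

set_option autoImplicit false
set_option linter.style.haveILetI false
universe u

open CategoryTheory AlgebraicGeometry

noncomputable section

namespace UHomeo

variable {A B : Type u} [CommRing A] [CommRing B]

/-- A ring map is radicial if points with values in fields are determined by their restrictions. -/
def Rad (φ : A →+* B) : Prop :=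
  ∀ (K : Type u) [Field K] (u v : B →+* K), u.comp φ = v.comp φ → u = v

theorem universallyInjective_iff_points {X Y : Scheme.{u}} (f : X ⟶ Y) :
    UniversallyInjective f ↔
      ∀ (K : Type u) [Field K], Function.Injective (fun g : Spec (CommRingCat.of K) ⟶ X => g ≫ f) :=
  (tfae_universallyInjective f).out 0 1

theorem rad_of_universallyInjective (φ : A →+* B) [UniversallyInjective (Spec.map (CommRingCat.ofHom φ))] :
    Rad φ := fun K _ u v h => by
  have hinj := (universallyInjective_iff_points (Spec.map (CommRingCat.ofHom φ))).mp ‹_› K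
  have e : Spec.map (CommRingCat.ofHom u) = Spec.map (CommRingCat.ofHom v) := hinj (by
    show _ ≫ _ = _ ≫ _
    rw [← Spec.map_comp, ← Spec.map_comp, ← CommRingCat.ofHom_comp, ← CommRingCat.ofHom_comp, h])
  exact congrArg CommRingCat.Hom.hom (Spec.map_injective e)

theorem universallyInjective_of_rad (φ : A →+* B) (h : Rad φ) :
    UniversallyInjective (Spec.map (CommRingCat.ofHom φ)) := by
  refine (universallyInjective_iff_points _).mpr fun K _ g g' hg => ?_
  obtain ⟨a, rfl⟩ := Spec.map_surjective g
  obtain ⟨b, rfl⟩ := Spec.map_surjective g'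
  have e : CommRingCat.ofHom φ ≫ a = CommRingCat.ofHom φ ≫ b := Spec.map_injective (by
    rw [Spec.map_comp, Spec.map_comp]; exact hg)
  exact congrArg Spec.map (CommRingCat.hom_ext (h K a.hom b.hom (congrArg CommRingCat.Hom.hom e)))

/-- Points with values in an algebraically closed field extend along integral maps. -/
theorem exists_extend {P : Type u} [CommRing P] (π : P →+* B) (hπ : π.IsIntegral) {K : Type u} [Field K]
    [IsAlgClosed K] (u : P →+* K) (hu : RingHom.ker π ≤ RingHom.ker u) :
    ∃ u' : B →+* K, u'.comp π = u := by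
  letI := π.toAlgebra
  haveI : Algebra.IsIntegral P B := ⟨hπ⟩
  haveI : (RingHom.ker u).IsPrime := RingHom.ker_isPrime u
  obtain ⟨Q, -, hQ, hQP⟩ := Ideal.exists_ideal_over_prime_of_isIntegral (RingHom.ker u) (⊥ : Ideal B)
    (by rw [← RingHom.ker_eq_comap_bot]; exact hu)
  haveI : Q.LiesOver (RingHom.ker u) := ⟨hQP.symm⟩
  haveI : Algebra.IsIntegral (P ⧸ RingHom.ker u) (B ⧸ Q) :=
    Algebra.IsIntegral.tower_top (R := P)
  letI : Algebra (P ⧸ RingHom.ker u) K := (RingHom.kerLift u).toAlgebra
  haveI : FaithfulSMul (P ⧸ RingHom.ker u) K :=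
    (faithfulSMul_iff_algebraMap_injective _ _).mpr (RingHom.kerLift_injective u)
  let l : (B ⧸ Q) →ₐ[P ⧸ RingHom.ker u] K := IsAlgClosed.lift
  refine ⟨l.toRingHom.comp (Ideal.Quotient.mk Q), RingHom.ext fun x => ?_⟩
  exact (l.commutes (Ideal.Quotient.mk _ x)).trans (RingHom.kerLift_mk u x)

/-- Radicial maps are characterised by points with values in algebraically closed fields. -/
theorem rad_of_algClosed (φ : A →+* B)
    (h : ∀ (K : Type u) [Field K] [IsAlgClosed K] (u v : B →+* K), u.comp φ = v.comp φ → u = v) : Rad φ :=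
  fun K _ u v e => RingHom.ext fun x => (algebraMap K (AlgebraicClosure K)).injective <|
    RingHom.congr_fun (h (AlgebraicClosure K) ((algebraMap K _).comp u) ((algebraMap K _).comp v)
      (by rw [RingHom.comp_assoc, RingHom.comp_assoc, e])) x

end UHomeo
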