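import Groth.Agent.UHomeoLib.Lift
import Groth.Agent.EtShLib.PushStalk
import Groth.Agent.EtShLib.FiniteExact
import Mathlib.AlgebraicGeometry.IdealSheaf.Subscheme
import Mathlib.CategoryTheory.Sites.DenseSubsite.SheafEquiv

/-!
# Direct images along integral universally injective morphisms
-/

set_option autoImplicit false
set_option linter.style.haveILetI false
universe u

open CategoryTheory CategoryTheory.Limits AlgebraicGeometry Opposite

namespace UHomeo

variable {X₀ X : Scheme.{u}}

theorem bc_isDenseSubsite (i : X₀ ⟶ X) [IsIntegralHom i] [UniversallyInjective i] [Surjective i] :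
    (EtCoh.bc i).IsDenseSubsite X.smallEtaleTopology X₀.smallEtaleTopology := by
  haveI : (EtCoh.bc i).IsEquivalence :=
    EtInvLib.bc_isEquivalence i fun X₁ x₁ _ x => UHomeo.exists_liftData i x₁ x
  refine { functorPushforward_mem_iff := fun {U S} => ⟨fun h => ?_, (EtCoh.coverPreserving_bc i).cover_preserve⟩ }
  have eY : X.smallEtaleTopology = (X.smallPretopology (P := EtCoh.etaleMP) (Q := EtCoh.etaleMP)).toGrothendieck :=
    Scheme.smallGrothendieckTopology_eq_toGrothendieck_smallPretopology X le_rfl
  have eX : X₀.smallEtaleTopology = (X₀.smallPretopology (P := EtCoh.etaleMP) (Q := EtCoh.etaleMP)).toGrothendieck :=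
    Scheme.smallGrothendieckTopology_eq_toGrothendieck_smallPretopology X₀ le_rfl
  rw [eX] at h
  rw [eY]
  replace h := (Scheme.mem_toGrothendieck_smallPretopology ((EtCoh.bc i).obj U) _).1 h
  refine (Scheme.mem_toGrothendieck_smallPretopology U S).2 fun x => ?_
  obtain ⟨x', hx'⟩ := (inferInstance : Surjective (pullback.fst U.hom i)).surj x
  obtain ⟨Y, f, y, ⟨Z, g, k, hg, hfk⟩, -, hy⟩ := h x'
  haveI : Etale g.left := by
    haveI : Etale (g.left ≫ U.hom) := by rw [show g.left ≫ U.hom = Z.hom from Over.w g.hom]; exact Z.prop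
    haveI : Etale U.hom := U.prop
    exact Etale.of_comp g.left U.hom
  refine ⟨Z, g, (pullback.fst Z.hom i : ((EtCoh.bc i).obj Z).left ⟶ Z.left) (k.left y), hg, ‹_›, ?_⟩
  have e1 : f.left y = ((EtCoh.bc i).map g).left (k.left y) := by
    rw [hfk]; rfl
  have hsq := (EtCoh.isPullback_bc_map i g).w
  rw [← hx', ← hy, e1]
  exact congrArg (fun φ => φ (k.left y)) hsq.symm

/-- Direct image along a universal homeomorphism is an equivalence. -/
theorem push_isEquivalence (i : X₀ ⟶ X) [IsIntegralHom i] [UniversallyInjective i] [Surjective i] :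
    (EtCoh.push i).IsEquivalence := by
  haveI := bc_isDenseSubsite i
  infer_instance

variable (f : X₀ ⟶ X) [IsIntegralHom f] [UniversallyInjective f]

theorem toImage_properties :
    IsIntegralHom f.toImage ∧ UniversallyInjective f.toImage ∧ Surjective f.toImage := by
  haveI : IsIntegralHom (f.toImage ≫ f.imageι) := by rw [f.toImage_imageι]; infer_instance
  haveI : UniversallyInjective (f.toImage ≫ f.imageι) := by rw [f.toImage_imageι]; infer_instance
  haveI : IsIntegralHom f.toImage := IsIntegralHom.of_comp f.toImage f.imageι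
  refine ⟨‹_›, ThickeningLib.universallyInjective_of_comp_mono f.toImage f.imageι inferInstance, ⟨fun y => ?_⟩⟩
  have h1 : DenseRange f.toImage := f.toImage.denseRange
  rw [denseRange_iff_closure_range, f.toImage.isClosedMap.isClosed_range.closure_eq] at h1
  exact h1.ge (Set.mem_univ y)

theorem range_imageι_eq : Set.range f.imageι = Set.range f := by
  haveI := (toImage_properties f).2.2
  refine subset_antisymm ?_ ?_
  · rintro _ ⟨y, rfl⟩
    obtain ⟨x, rfl⟩ := f.toImage.surjective y
    exact ⟨x, by rw [← Scheme.Hom.comp_apply, f.toImage_imageι]⟩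
  · rintro _ ⟨x, rfl⟩
    exact ⟨f.toImage x, by rw [← Scheme.Hom.comp_apply, f.toImage_imageι]⟩

/-- The direct image is a closed direct image after an equivalence. -/
noncomputable def pushIso : EtCoh.push f.toImage ⋙ EtCoh.push f.imageι ≅ EtCoh.push f :=
  EtCoh.pushComp f.imageι f.toImage ≪≫ EtCoh.pushCongr f.toImage_imageι

theorem push_preservesFiniteColimits : PreservesFiniteColimits (EtCoh.push f) := by
  obtain ⟨h1, h2, h3⟩ := toImage_properties f
  haveI := push_isEquivalence f.toImage
  haveI := Groth.Agent.EtShLib.isIso_preι f.imageι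
  haveI := Groth.Agent.EtShLib.preservesColimits_preF f.imageι
  haveI : PreservesFiniteColimits (Groth.Agent.EtShLib.preF f.imageι) :=
    PreservesColimitsOfSize.preservesFiniteColimits _
  haveI : PreservesFiniteColimits (EtCoh.push f.imageι) :=
    preservesFiniteColimits_of_natIso (asIso (Groth.Agent.EtShLib.preι f.imageι))
  haveI : PreservesColimitsOfSize.{0, 0} (EtCoh.push f.toImage) :=
    (EtCoh.push f.toImage).asEquivalence.toAdjunction.leftAdjoint_preservesColimits
  haveI : PreservesFiniteColimits (EtCoh.push f.toImage) := PreservesColimitsOfSize.preservesFiniteColimits _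
  exact preservesFiniteColimits_of_natIso (pushIso f)

theorem push_full_faithful : (EtCoh.push f).Full ∧ (EtCoh.push f).Faithful := by
  obtain ⟨h1, h2, h3⟩ := toImage_properties f
  haveI := push_isEquivalence f.toImage
  haveI : IsIso (EtCoh.pullPushAdj f.imageι).counit := by
    haveI := fun G => Groth.Agent.EtShLib.counit_isIso_of_closedImmersion f.imageι G
    exact NatIso.isIso_of_isIso_app _
  haveI := (EtCoh.pullPushAdj f.imageι).fullyFaithfulROfIsIsoCounit.full
  haveI := (EtCoh.pullPushAdj f.imageι).fullyFaithfulROfIsIsoCounit.faithful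
  exact ⟨Functor.Full.of_iso (pushIso f), Functor.Faithful.of_iso (pushIso f)⟩

theorem counit_isIso (F : EtCoh.Ab X₀) : IsIso ((EtCoh.pullPushAdj f).counit.app F) := by
  obtain ⟨h1, h2⟩ := push_full_faithful f
  infer_instance

theorem mem_essImage_iff (G : EtCoh.Ab X) :
    (EtCoh.push f).essImage G ↔ EtPBC.supp G ⊆ Set.range f := by
  obtain ⟨h1, h2, h3⟩ := toImage_properties f
  haveI := push_isEquivalence f.toImage
  rw [← range_imageι_eq f]
  constructor
  · rintro ⟨F, ⟨e⟩⟩ x ⟨Ω, _, _, ξ, hξ, hne⟩
    by_contra hx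
    haveI := Groth.Agent.EtShLib.subsingleton_push_stalk f.imageι ((EtCoh.push f.toImage).obj F) ξ
      (fun h => hx (by rw [← (show ξ default = x from hξ.subset ⟨default, rfl⟩)]; exact h))
    exact hne (IsZero.of_iso (@AddCommGrpCat.isZero_of_subsingleton
      ((EtCoh.stalk ξ).obj ((EtCoh.push f.imageι).obj ((EtCoh.push f.toImage).obj F))) ‹_›)
      ((EtCoh.stalk ξ).mapIso (e.symm ≪≫ ((pushIso f).app F).symm)))
  · intro h
    haveI := Groth.Agent.EtShLib.unit_isIso_of_vanish f.imageι G fun U hU => ⟨fun s t =>
      Groth.Agent.EtShLib.eq_of_germ (A := AddCommGrpCat.{u + 1}) G s t fun Ω _ _ ξ u => by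
        haveI : Subsingleton ((EtCoh.stalk ξ).obj G) := by
          refine AddCommGrpCat.subsingleton_of_isZero ?_
          by_contra hne
          have hr : Set.range ξ = {ξ.base default} := Set.eq_singleton_iff_unique_mem.mpr
            ⟨⟨default, rfl⟩, fun _ ⟨a, ha⟩ => by rw [← ha, Subsingleton.elim a default]⟩
          have hm : ξ.base default ∈ Set.range U.hom.base :=
            ⟨u.pt, congrArg (fun t : Spec (CommRingCat.of Ω) ⟶ X => t.base default) u.w⟩
          exact hU hm (h ⟨Ω, inferInstance, inferInstance, ξ, hr, hne⟩)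
        exact Subsingleton.elim (α := (EtCoh.stalk ξ).obj G) _ _⟩
    refine ⟨(EtCoh.push f.toImage).objPreimage ((EtCoh.pull f.imageι).obj G), ⟨?_⟩⟩
    exact ((pushIso f).app _).symm ≪≫
      (EtCoh.push f.imageι).mapIso ((EtCoh.push f.toImage).objObjPreimageIso _) ≪≫
      (asIso ((EtCoh.pullPushAdj f.imageι).unit.app G)).symm

end UHomeo
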