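import Groth.Agent.UHomeoLib.IndEt
import Groth.Agent.WCSiteLib.CoverDense
import Mathlib.CategoryTheory.Sites.DenseSubsite.SheafEquiv

/-!
# Small pro-étale sites and universal homeomorphisms
-/

set_option autoImplicit false
set_option linter.style.haveILetI false
set_option backward.isDefEq.respectTransparency false
universe u

open CategoryTheory CategoryTheory.Limits AlgebraicGeometry Opposite

noncomputable section

namespace UHomeo

open ProEtPtsLib Groth.Agent Groth.Agent.WCSiteLib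

/-- A function which is one on the image of a retract and lands in a principal ideal. -/
theorem exists_denominator {T P : Scheme.{u}} [IsAffine T] [IsAffine P] (p : T ⟶ P) [UniversallyInjective p]
    (hp : p.appTop.hom.IsIntegral) {S : Type u} [CommRing S] (ψ : Γ(T, ⊤) →+* S) (y : Γ(T, ⊤)) (hy : ψ y = 0) :
    ∃ r : Γ(P, ⊤), ψ (p.appTop r) = 1 ∧ p.appTop r ∈ Ideal.span {1 - y} := by
  let γ : Γ(P, ⊤) →+* Γ(T, ⊤) := p.appTop.hom
  have htop : RingHom.ker (ψ.comp γ) ⊔ (Ideal.span {1 - y}).comap γ = ⊤ := by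
    by_contra h
    obtain ⟨M, hM, hle⟩ := Ideal.exists_le_maximal _ h
    rw [sup_le_iff] at hle
    letI := γ.toAlgebra
    haveI : Algebra.IsIntegral ↥Γ(P, ⊤) ↥Γ(T, ⊤) := ⟨hp⟩
    obtain ⟨q₁, hq₁, hq₁p, hq₁M⟩ := Ideal.exists_ideal_over_prime_of_isIntegral M (RingHom.ker ψ)
      (by exact hle.1)
    obtain ⟨q₂, hq₂, hq₂p, hq₂M⟩ := Ideal.exists_ideal_over_prime_of_isIntegral M (Ideal.span {1 - y})
      (by exact hle.2)
    haveI : UniversallyInjective (Spec.map p.appTop) :=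
      (MorphismProperty.arrow_mk_iso_iff @UniversallyInjective (arrowIsoSpecΓOfIsAffine p)).1 ‹_›
    have := congrArg PrimeSpectrum.asIdeal ((Spec.map p.appTop).injective
      (a₁ := (⟨q₁, hq₁p⟩ : PrimeSpectrum ↥Γ(T, ⊤))) (a₂ := ⟨q₂, hq₂p⟩)
      (PrimeSpectrum.ext (hq₁M.trans hq₂M.symm)))
    have h1 : (1 : ↥Γ(T, ⊤)) ∈ q₁ := by
      have e : q₁ = q₂ := this
      have := q₁.add_mem (hq₁ (show y ∈ RingHom.ker ψ from hy))
        (show 1 - y ∈ q₁ from e ▸ hq₂ (Ideal.mem_span_singleton_self _))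
      simpa using this
    exact hq₁p.ne_top ((Ideal.eq_top_iff_one _).2 h1)
  obtain ⟨j, hj, r, hr, h⟩ := Submodule.mem_sup.1 ((Ideal.eq_top_iff_one _).1 htop)
  refine ⟨r, ?_, hr⟩
  have := congrArg (ψ.comp γ) h
  rw [map_add, map_one, show ψ.comp γ j = 0 from hj, zero_add] at this
  exact this

variable {X Z : Scheme.{u}} (i : Z ⟶ X) [IsIntegralHom i] [UniversallyInjective i]

theorem exists_lift_affine {U V : X.ProEt} [IsAffine U.left] [IsAffine V.left] (X₁ : X.Opens)
    (hX₁ : IsAffineOpen X₁) (a : U.left ⟶ X₁) (ha : a ≫ X₁.ι = U.hom) (b : V.left ⟶ X₁) (hb : b ≫ X₁.ι = V.hom)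
    (f : (ProEtS.bcP i).obj U ⟶ (ProEtS.bcP i).obj V) :
    ∃ (U' : X.ProEt) (g : U' ⟶ U) (l : U' ⟶ V) (s : (ProEtS.bcP i).obj U ⟶ (ProEtS.bcP i).obj U'),
      (ProEtS.bcP i).map l = (ProEtS.bcP i).map g ≫ f ∧ s ≫ (ProEtS.bcP i).map g = 𝟙 _ := by
  haveI : IsAffine (X₁ : Scheme.{u}) := hX₁
  haveI : WeaklyEtale b := by
    haveI : WeaklyEtale (b ≫ X₁.ι) := by rw [hb]; exact V.prop
    exact WeaklyEtale.of_comp _ X₁.ι
  haveI : WeaklyEtale U.hom := U.prop
  let Po : X.ProEt := Scheme.ProEt.mk (pullback.fst a b ≫ U.hom)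
  let pr₁ : Po ⟶ U := MorphismProperty.Over.homMk (pullback.fst a b) rfl
  let pr₂ : Po ⟶ V := MorphismProperty.Over.homMk (pullback.snd a b) (by
    show pullback.snd a b ≫ V.hom = pullback.fst a b ≫ U.hom
    rw [← ha, ← hb, pullback.condition_assoc])
  haveI : IsAffine Po.left := inferInstanceAs (IsAffine (pullback a b))
  have haffbc : ∀ (W : X.ProEt) [IsAffine W.left], IsAffine (pullback W.hom i) := fun W _ => by
    haveI : IsAffineHom (pullback.fst W.hom i) := MorphismProperty.pullback_fst (P := @IsAffineHom) _ i inferInstance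
    exact @isAffine_of_isAffineHom _ _ (pullback.fst W.hom i) ‹_› (inferInstanceAs (IsAffine W.left))
  haveI := haffbc U
  haveI := haffbc Po
  let σ₀ : pullback U.hom i ⟶ pullback a b :=
    pullback.lift (pullback.fst U.hom i) (und f ≫ pullback.fst V.hom i) (by
      rw [← cancel_mono X₁.ι, Category.assoc, Category.assoc, Category.assoc, ha, hb, pullback.condition,
        pullback.condition]
      exact congrArg (· ≫ i) (Over.w ((Scheme.ProEt.forget Z).map f)).symm)
  let σ : (ProEtS.bcP i).obj U ⟶ (ProEtS.bcP i).obj Po :=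
    MorphismProperty.Over.homMk
      (pullback.lift (f := Po.hom) (g := i) σ₀ (pullback.snd U.hom i) (by
        show σ₀ ≫ pullback.fst a b ≫ U.hom = _
        rw [pullback.lift_fst_assoc, pullback.condition]))
      (pullback.lift_snd _ _ _)
  have hσfst : und σ ≫ pullback.fst Po.hom i = σ₀ := pullback.lift_fst _ _ _
  have hσ₁ : σ ≫ (ProEtS.bcP i).map pr₁ = 𝟙 _ := hom_ext_und <| pullback.hom_ext
    (by
      show (und σ ≫ und ((ProEtS.bcP i).map pr₁)) ≫ pullback.fst U.hom i = 𝟙 _ ≫ pullback.fst U.hom i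
      rw [Category.assoc, bc_map_fst, ← Category.assoc, hσfst, Category.id_comp]
      exact pullback.lift_fst _ _ _)
    (by
      show (und σ ≫ und ((ProEtS.bcP i).map pr₁)) ≫ pullback.snd U.hom i = 𝟙 _ ≫ pullback.snd U.hom i
      rw [Category.assoc, bc_map_snd, Category.id_comp]
      exact Over.w ((Scheme.ProEt.forget Z).map σ))
  have hσ₂ : σ ≫ (ProEtS.bcP i).map pr₂ = f := hom_ext_und <| pullback.hom_ext
    (by
      show (und σ ≫ und ((ProEtS.bcP i).map pr₂)) ≫ pullback.fst V.hom i = _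
      rw [Category.assoc, bc_map_fst, ← Category.assoc, hσfst]
      exact pullback.lift_snd _ _ _)
    (by
      show (und σ ≫ und ((ProEtS.bcP i).map pr₂)) ≫ pullback.snd V.hom i = _
      rw [Category.assoc, bc_map_snd]
      exact (Over.w ((Scheme.ProEt.forget Z).map σ)).trans (Over.w ((Scheme.ProEt.forget Z).map f)).symm)
  let T := pullback Po.hom i
  let π : T ⟶ pullback U.hom i := und ((ProEtS.bcP i).map pr₁)
  let s₀ : pullback U.hom i ⟶ T := und σ
  have hsπ : s₀ ≫ π = 𝟙 _ := congrArg (fun m => und m) hσ₁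
  let ψ : ↥Γ(T, ⊤) →+* ↥Γ(pullback U.hom i, ⊤) := s₀.appTop.hom
  have hψπ : ∀ z, ψ (π.appTop z) = z := fun z => by
    have := congrArg (fun m : pullback U.hom i ⟶ pullback U.hom i => m.appTop z) hsπ
    simp only [Scheme.Hom.comp_appTop, Scheme.Hom.id_appTop] at this
    exact this
  have hψs : Function.Surjective ψ := fun z => ⟨π.appTop z, hψπ z⟩
  have hψf : ψ.Flat := by
    haveI : WeaklyEtale s₀ := weaklyEtale_und σ
    exact HasRingHomProperty.appTop (P := @Flat) s₀ inferInstance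
  haveI : IsIntegralHom (pullback.fst Po.hom i) :=
    MorphismProperty.pullback_fst (P := @IsIntegralHom) _ i inferInstance
  haveI : UniversallyInjective (pullback.fst Po.hom i) :=
    MorphismProperty.pullback_fst (P := @UniversallyInjective) _ i inferInstance
  haveI : IsAffine ((𝟭 Scheme).obj Po.left) := inferInstanceAs (IsAffine Po.left)
  let γ : ↥Γ(Po.left, ⊤) →+* ↥Γ(T, ⊤) := (pullback.fst Po.hom i).appTop.hom
  have hγi : γ.IsIntegral := (pullback.fst Po.hom i).isIntegral_app ⊤ (isAffineOpen_top _)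
  let S : Submonoid ↥Γ(Po.left, ⊤) := (IsUnit.submonoid ↥Γ(pullback U.hom i, ⊤)).comap (ψ.comp γ).toMonoidHom
  let R' := Localization S
  let loc : Γ(Po.left, ⊤) ⟶ CommRingCat.of R' := CommRingCat.ofHom (algebraMap ↥Γ(Po.left, ⊤) R')
  haveI : Algebra.WeaklyEtale ↥Γ(Po.left, ⊤) R' := WEtNormalLib.weaklyEtale_localization _ R' S
  haveI : WeaklyEtale (Spec.map loc) := weaklyEtale_specMap ↥Γ(Po.left, ⊤) R'
  let g₀' : Spec (CommRingCat.of R') ⟶ Po.left := Spec.map loc ≫ Po.left.isoSpec.inv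
  haveI : WeaklyEtale Po.hom := Po.prop
  let U' : X.ProEt := Scheme.ProEt.mk (g₀' ≫ Po.hom)
  haveI : IsAffine U'.left := inferInstanceAs (IsAffine (Spec (CommRingCat.of R')))
  haveI := haffbc U'
  let g₀ : U' ⟶ Po := MorphismProperty.Over.homMk g₀' rfl
  let ψl : R' →+* ↥Γ(pullback U.hom i, ⊤) := IsLocalization.lift (M := S) (g := ψ.comp γ) fun y => y.2
  let lft : pullback U.hom i ⟶ Spec (CommRingCat.of R') :=
    (pullback U.hom i).isoSpec.hom ≫ Spec.map (CommRingCat.ofHom ψl)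
  have hlft : lft ≫ g₀' = σ₀ := by
    have e1 : loc ≫ CommRingCat.ofHom ψl = (pullback.fst Po.hom i).appTop ≫ s₀.appTop := by
      ext z
      exact IsLocalization.lift_eq _ z
    show ((pullback U.hom i).isoSpec.hom ≫ Spec.map (CommRingCat.ofHom ψl)) ≫ Spec.map loc ≫ Po.left.isoSpec.inv = σ₀
    rw [Category.assoc, ← Spec.map_comp_assoc, e1, ← Scheme.Hom.comp_appTop, Scheme.isoSpec_hom_naturality_assoc,
      ]
    erw [Iso.hom_inv_id, Category.comp_id]
    exact hσfst
  let s : (ProEtS.bcP i).obj U ⟶ (ProEtS.bcP i).obj U' :=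
    MorphismProperty.Over.homMk
      (pullback.lift (f := U'.hom) (g := i) lft (pullback.snd U.hom i) (by
        show lft ≫ g₀' ≫ Po.hom = _
        rw [reassoc_of% hlft]
        show σ₀ ≫ pullback.fst a b ≫ U.hom = _
        rw [pullback.lift_fst_assoc, pullback.condition]))
      (pullback.lift_snd _ _ _)
  have hs : s ≫ (ProEtS.bcP i).map g₀ = σ := hom_ext_und <| pullback.hom_ext
    (by
      show (und s ≫ und ((ProEtS.bcP i).map g₀)) ≫ pullback.fst Po.hom i = _
      rw [Category.assoc, bc_map_fst, ← Category.assoc, show und s ≫ pullback.fst U'.hom i = lft from pullback.lift_fst _ _ _]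
      exact hlft.trans hσfst.symm)
    (by
      show (und s ≫ und ((ProEtS.bcP i).map g₀)) ≫ pullback.snd Po.hom i = _
      rw [Category.assoc, bc_map_snd]
      exact (Over.w ((Scheme.ProEt.forget Z).map s)).trans (Over.w ((Scheme.ProEt.forget Z).map σ)).symm)
  let β : pullback U'.hom i ⟶ T := und ((ProEtS.bcP i).map g₀)
  have hunit : ∀ r ∈ S, IsUnit (β.appTop (γ r)) := fun r hr => by
    have e2 : β.appTop (γ r) = (pullback.fst U'.hom i).appTop (g₀'.appTop r) := by
      have := congrArg (fun m : pullback U'.hom i ⟶ Po.left => m.appTop r) (bc_map_fst i g₀)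
      simp only [Scheme.Hom.comp_appTop] at this
      exact this
    rw [e2]
    refine RingHom.isUnit_map _ ?_
    have e3 : g₀'.appTop = loc ≫ (Scheme.ΓSpecIso (CommRingCat.of R')).inv := by
      have e4 : Po.left.isoSpec.inv.appTop = (Scheme.ΓSpecIso Γ(Po.left, ⊤)).inv := by
        rw [← cancel_mono Po.left.isoSpec.hom.appTop, ← Scheme.Hom.comp_appTop, Iso.hom_inv_id]
        simp [Scheme.isoSpec]
      show (Spec.map loc ≫ Po.left.isoSpec.inv).appTop = _
      rw [Scheme.Hom.comp_appTop, e4, ← Scheme.ΓSpecIso_inv_naturality]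
    rw [e3]
    show IsUnit ((Scheme.ΓSpecIso (CommRingCat.of R')).inv (algebraMap _ R' r))
    exact (IsLocalization.map_units R' (⟨r, hr⟩ : S)).map _
  have hb : β = β ≫ π ≫ s₀ := by
    refine ext_of_isAffine ?_
    ext t
    have hx : ψ (t - π.appTop (ψ t)) = 0 := by rw [map_sub, hψπ, sub_self]
    obtain ⟨y, hy, hxy⟩ := exists_mul_of_flat ψ hψs hψf hx
    obtain ⟨r, hr₁, hr₂⟩ := exists_denominator (pullback.fst Po.hom i) hγi ψ y hy
    have hrS : r ∈ S := by
      show IsUnit (ψ (γ r))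
      rw [show ψ (γ r) = 1 from hr₁]
      exact isUnit_one
    have h0 : β.appTop (t - π.appTop (ψ t)) = 0 := (hunit r hrS).mul_right_eq_zero.1 (by
      obtain ⟨c, hc⟩ := Ideal.mem_span_singleton'.1 hr₂
      rw [← map_mul, show γ r = c * (1 - y) from hc.symm, mul_assoc, sub_mul, one_mul, ← hxy, sub_self,
        mul_zero, map_zero])
    rw [map_sub, sub_eq_zero] at h0
    simp only [Scheme.Hom.comp_appTop]
    exact h0
  refine ⟨U', g₀ ≫ pr₁, g₀ ≫ pr₂, s, ?_, ?_⟩
  · rw [Functor.map_comp, Functor.map_comp, Category.assoc]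
    have hb' : (ProEtS.bcP i).map g₀ = (ProEtS.bcP i).map g₀ ≫ (ProEtS.bcP i).map pr₁ ≫ σ := hom_ext_und hb
    conv_lhs => rw [hb']
    rw [Category.assoc, Category.assoc, hσ₂]
  · rw [Functor.map_comp, ← Category.assoc, hs, hσ₁]

theorem bcP_locallyFull_of_radicial : (ProEtS.bcP i).IsLocallyFull (Scheme.ProEt.topology Z) := by
  refine ⟨fun {U V} f => ?_⟩
  haveI : IsIntegralHom (pullback.fst U.hom i) :=
    MorphismProperty.pullback_fst (P := @IsIntegralHom) _ i ‹_›
  haveI : UniversallyInjective (pullback.fst U.hom i) :=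
    MorphismProperty.pullback_fst (P := @UniversallyInjective) _ i ‹_›
  have hemb : Topology.IsClosedEmbedding (pullback.fst U.hom i).base :=
    .of_continuous_injective_isClosedMap (pullback.fst U.hom i).continuous (pullback.fst U.hom i).injective
      (pullback.fst U.hom i).isClosedMap
  have H : ∀ p : ↥(pullback U.hom i), ∃ (U₂ : U.left.Opens), (pullback.fst U.hom i).base p ∈ U₂ ∧
      ∃ (U' : X.ProEt) (g : U' ⟶ openObj U U₂) (l : U' ⟶ V) (s : (ProEtS.bcP i).obj (openObj U U₂) ⟶ (ProEtS.bcP i).obj U'),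
        (ProEtS.bcP i).map l = (ProEtS.bcP i).map (g ≫ openι U U₂) ≫ f ∧ s ≫ (ProEtS.bcP i).map g = 𝟙 _ := by
    intro p
    obtain ⟨X₁, hX₁, hxX₁, -⟩ := exists_isAffineOpen_mem_and_subset
      (x := i.base ((pullback.snd U.hom i).base p)) (U := ⊤) trivial
    have hv : (pullback.fst V.hom i).base ((und f).base p) ∈ V.hom ⁻¹ᵁ X₁ := by
      show (((und f) ≫ pullback.fst V.hom i ≫ V.hom).base p) ∈ X₁
      rw [pullback.condition, ← Category.assoc,
        show und f ≫ pullback.snd V.hom i = pullback.snd U.hom i from Over.w ((Scheme.ProEt.forget Z).map f)]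
      exact hxX₁
    obtain ⟨V₁, hV₁, hvV₁, hV₁X⟩ := exists_isAffineOpen_mem_and_subset (U := V.hom ⁻¹ᵁ X₁) hv
    obtain ⟨O, hO, hOeq⟩ := hemb.isInducing.isOpen_iff.1
      (((und f) ≫ pullback.fst V.hom i) ⁻¹ᵁ V₁).isOpen
    have hu : (pullback.fst U.hom i).base p ∈ (⟨O, hO⟩ : U.left.Opens) ⊓ U.hom ⁻¹ᵁ X₁ := by
      refine ⟨hOeq.ge hvV₁, ?_⟩
      show ((pullback.fst U.hom i ≫ U.hom).base p) ∈ X₁
      rw [pullback.condition]
      exact hxX₁
    obtain ⟨U₂, hU₂, huU₂, hU₂O⟩ := exists_isAffineOpen_mem_and_subset hu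
    haveI : IsAffine (openObj U U₂).left := hU₂
    haveI : IsAffine (openObj V V₁).left := hV₁
    haveI : IsOpenImmersion (und ((ProEtS.bcP i).map (openι V V₁))) :=
      MorphismProperty.of_isPullback (P := @IsOpenImmersion) (bc_map_isPullback i (openι V V₁)).flip
        (inferInstanceAs (IsOpenImmersion V₁.ι))
    let m : (ProEtS.bcP i).obj (openObj U U₂) ⟶ (ProEtS.bcP i).obj V := (ProEtS.bcP i).map (openι U U₂) ≫ f
    have hrange : Set.range (und m).base ⊆ Set.range (und ((ProEtS.bcP i).map (openι V V₁))).base := by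
      rintro _ ⟨z, rfl⟩
      have hz : (und ((ProEtS.bcP i).map (openι U U₂)) ≫ pullback.fst U.hom i).base z ∈ U₂ := by
        rw [bc_map_fst]
        exact ((pullback.fst (openObj U U₂).hom i).base z).2
      have hz' := hOeq.le (hU₂O hz).1
      obtain ⟨w, hw⟩ : (pullback.fst V.hom i).base ((und m).base z) ∈ Set.range (und (openι V V₁)).base :=
        ⟨⟨_, hz'⟩, rfl⟩
      obtain ⟨w', hw', -⟩ := exists_preimage_isPullback (bc_map_isPullback i (openι V V₁)) _ _ hw.symm
      exact ⟨w', hw'⟩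
    let f₂ : (ProEtS.bcP i).obj (openObj U U₂) ⟶ (ProEtS.bcP i).obj (openObj V V₁) :=
      MorphismProperty.Over.homMk (IsOpenImmersion.lift _ (und m) hrange) (by
        show IsOpenImmersion.lift _ (und m) hrange ≫ pullback.snd (openObj V V₁).hom i = _
        rw [← bc_map_snd i (openι V V₁), IsOpenImmersion.lift_fac_assoc]
        exact Over.w ((Scheme.ProEt.forget Z).map m))
    have hf₂ : f₂ ≫ (ProEtS.bcP i).map (openι V V₁) = m := hom_ext_und (IsOpenImmersion.lift_fac _ _ hrange)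
    let a : (openObj U U₂).left ⟶ (X₁ : Scheme.{u}) := IsOpenImmersion.lift X₁.ι (U₂.ι ≫ U.hom) (by
      rintro _ ⟨z, rfl⟩
      rw [Scheme.Opens.range_ι]
      exact (hU₂O z.2).2)
    let b : (openObj V V₁).left ⟶ (X₁ : Scheme.{u}) := IsOpenImmersion.lift X₁.ι (V₁.ι ≫ V.hom) (by
      rintro _ ⟨z, rfl⟩
      rw [Scheme.Opens.range_ι]
      exact hV₁X z.2)
    obtain ⟨U', g, l, s, hl, hs⟩ := exists_lift_affine i X₁ hX₁ a (IsOpenImmersion.lift_fac _ _ _) b
      (IsOpenImmersion.lift_fac _ _ _) f₂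
    refine ⟨U₂, huU₂, U', g, l ≫ openι V V₁, s, ?_, hs⟩
    rw [Functor.map_comp, hl, Category.assoc, hf₂, Functor.map_comp, Category.assoc]
  choose U₂ hp U' g l s hl hs using H
  have hoi : ∀ p, IsOpenImmersion (und ((ProEtS.bcP i).map (openι U (U₂ p)))) := fun p =>
    MorphismProperty.of_isPullback (P := @IsOpenImmersion) (bc_map_isPullback i (openι U (U₂ p))).flip
      (inferInstanceAs (IsOpenImmersion (U₂ p).ι))
  have hmem : Sieve.ofArrows (fun p => (ProEtS.bcP i).obj (openObj U (U₂ p)))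
      (fun p => (ProEtS.bcP i).map (openι U (U₂ p))) ∈ Scheme.ProEt.topology Z ((ProEtS.bcP i).obj U) := by
    refine ofArrows_mem_of_mem (W := (ProEtS.bcP i).obj U) _ _
      (Scheme.zariskiPrecoverage_le_propQCPrecoverage _ ?_)
    refine (Scheme.ofArrows_mem_precoverage_iff _).2 ⟨fun p => ?_, hoi⟩
    obtain ⟨w', hw', -⟩ := exists_preimage_isPullback (bc_map_isPullback i (openι U (U₂ p))) p ⟨_, hp p⟩ rfl
    exact ⟨p, w', hw'⟩
  refine GrothendieckTopology.transitive _ hmem _ fun Y h hh => ?_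
  obtain ⟨p, c, rfl⟩ := (Sieve.mem_ofArrows_iff _ _ _).1 hh
  rw [Sieve.pullback_comp]
  refine GrothendieckTopology.pullback_stable _ c ?_
  have : ((ProEtS.bcP i).map (openι U (U₂ p))) = s p ≫ (ProEtS.bcP i).map (g p ≫ openι U (U₂ p)) := by
    rw [Functor.map_comp, ← Category.assoc, hs, Category.id_comp]
  refine GrothendieckTopology.superset_covering _ (fun W q _ => ?_) (GrothendieckTopology.top_mem _ _)
  exact ⟨_, g p ≫ openι U (U₂ p), q ≫ s p, ⟨l p, hl p⟩, by rw [Category.assoc, ← this]⟩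

variable [Surjective i]

theorem exists_local_lift (W : Z.ProEt) (w : ↥W.left) :
    ∃ (B : Z.ProEt) (o : B ⟶ W) (D : Z.ProEt) (d : D ⟶ B) (V : X.ProEt) (r : (ProEtS.bcP i).obj V ⟶ D)
      (a : D ⟶ (ProEtS.bcP i).obj V), IsOpenImmersion (und o) ∧ w ∈ Set.range (und o).base ∧
      IsAffine B.left ∧ IsAffine D.left ∧ Surjective (und d) ∧ a ≫ r = 𝟙 D := by
  obtain ⟨X₁, hX₁, hxX₁, -⟩ := exists_isAffineOpen_mem_and_subset
    (x := i.base (W.hom.base w)) (U := ⊤) trivial
  let c : Spec Γ(X, X₁) ⟶ X := hX₁.fromSpec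
  let P0 := pullback c i
  haveI : IsIntegralHom (pullback.fst c i) := MorphismProperty.pullback_fst (P := @IsIntegralHom) c i ‹_›
  haveI : IsAffine P0 := isAffine_of_isAffineHom (pullback.fst c i)
  obtain ⟨φA, hφA⟩ := Spec.map_surjective (P0.isoSpec.inv ≫ pullback.fst c i)
  let c' : Spec Γ(P0, ⊤) ⟶ Z := P0.isoSpec.inv ≫ pullback.snd c i
  haveI : IsOpenImmersion c := inferInstance
  haveI : IsOpenImmersion c' := inferInstance
  have hpb : IsPullback c' (Spec.map φA) i c :=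
    (IsPullback.of_hasPullback c i).flip.of_iso P0.isoSpec (Iso.refl _) (Iso.refl _) (Iso.refl _)
      (by simp [c', P0]) (by simp [hφA, P0]) (by simp) (by simp)
  have hint : IsIntegralHom (Spec.map φA) := MorphismProperty.of_isPullback (P := @IsIntegralHom) hpb ‹_›
  have hinj : UniversallyInjective (Spec.map φA) := MorphismProperty.of_isPullback (P := @UniversallyInjective) hpb ‹_›
  have hsur : Surjective (Spec.map φA) := MorphismProperty.of_isPullback (P := @Surjective) hpb ‹_›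
  obtain ⟨z, hz⟩ : W.hom.base w ∈ Set.range c'.base := by
    obtain ⟨y, hy⟩ : i.base (W.hom.base w) ∈ Set.range c.base := by rw [hX₁.range_fromSpec]; exact hxX₁
    obtain ⟨q, hq₁, hq₂⟩ := Scheme.Pullback.exists_preimage_pullback (f := c) (g := i) y (W.hom.base w) hy
    refine ⟨P0.isoSpec.hom.base q, ?_⟩
    show (P0.isoSpec.hom ≫ P0.isoSpec.inv ≫ pullback.snd c i).base q = _
    rw [Iso.hom_inv_id_assoc]
    exact hq₂
  haveI : WeaklyEtale W.hom := W.prop
  obtain ⟨q, hq₁, hq₂⟩ := Scheme.Pullback.exists_preimage_pullback (f := W.hom) (g := c') w z hz.symm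
  let P := pullback W.hom c'
  obtain ⟨j, q', hq'⟩ := P.affineOpenCover.openCover.exists_eq q
  let Bc := P.affineOpenCover.X j
  let oB : Spec Bc ⟶ W.left := P.affineOpenCover.f j ≫ pullback.fst W.hom c'
  obtain ⟨φ, hφ⟩ := Spec.map_surjective (P.affineOpenCover.f j ≫ pullback.snd W.hom c')
  haveI : IsOpenImmersion oB := inferInstance
  haveI : WeaklyEtale (Spec.map φ) := by
    rw [hφ]
    haveI : WeaklyEtale (pullback.snd W.hom c') := MorphismProperty.pullback_snd (P := @WeaklyEtale) _ c' ‹_›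
    infer_instance
  letI : Algebra ↥Γ(P0, ⊤) Bc := φ.hom.toAlgebra
  haveI : Algebra.WeaklyEtale ↥Γ(P0, ⊤) Bc := WEtReducedLib.weaklyEtale_of_spec φ
  obtain ⟨D, _, _, _, _, hff, hBD, hID⟩ := WEtIndEtLib.exists_indEtale_refine ↥Γ(P0, ⊤) Bc
  letI : Algebra ↥Γ(X, X₁) ↥Γ(P0, ⊤) := φA.hom.toAlgebra
  haveI : IsIntegralHom (Spec.map (CommRingCat.ofHom (algebraMap ↥Γ(X, X₁) ↥Γ(P0, ⊤)))) := hint
  haveI : UniversallyInjective (Spec.map (CommRingCat.ofHom (algebraMap ↥Γ(X, X₁) ↥Γ(P0, ⊤)))) := hinj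
  haveI : Surjective (Spec.map (CommRingCat.ofHom (algebraMap ↥Γ(X, X₁) ↥Γ(P0, ⊤)))) := hsur
  obtain ⟨C, _, _, hAC, ⟨ε⟩⟩ := exists_indEtale_lift (A := ↥Γ(X, X₁)) (R := ↥Γ(P0, ⊤)) D hID
  haveI := Groth.Agent.S0736.result ↥Γ(X, X₁) C hAC
  haveI := Groth.Agent.S0736.result Bc D hBD
  let φC : Γ(X, X₁) ⟶ CommRingCat.of C := CommRingCat.ofHom (algebraMap ↥Γ(X, X₁) C)
  let φD : Bc ⟶ CommRingCat.of D := CommRingCat.ofHom (algebraMap Bc D)
  haveI : WeaklyEtale (Spec.map φC) := weaklyEtale_specMap ↥Γ(X, X₁) C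
  haveI : WeaklyEtale (Spec.map φD) := weaklyEtale_specMap Bc D
  let B : Z.ProEt := Scheme.ProEt.mk (oB ≫ W.hom)
  let o : B ⟶ W := MorphismProperty.Over.homMk oB rfl
  let Dz : Z.ProEt := Scheme.ProEt.mk (Spec.map φD ≫ oB ≫ W.hom)
  let d : Dz ⟶ B := MorphismProperty.Over.homMk (Spec.map φD) rfl
  let V : X.ProEt := Scheme.ProEt.mk (Spec.map φC ≫ c)
  have hoB : oB ≫ W.hom = Spec.map φ ≫ c' := by
    rw [hφ, Category.assoc, Category.assoc, pullback.condition]
  have hDR : Spec.map (CommRingCat.ofHom (algebraMap ↥Γ(P0, ⊤) D)) ≫ c' = Dz.hom := by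
    show _ = Spec.map φD ≫ oB ≫ W.hom
    rw [hoB, ← Spec.map_comp_assoc]
    congr 2
    ext x
    exact IsScalarTower.algebraMap_apply ↥Γ(P0, ⊤) Bc D x
  let qD : CommRingCat.of C ⟶ CommRingCat.of D := CommRingCat.ofHom (ε.toRingEquiv.toRingHom.comp
    (Algebra.TensorProduct.includeRight : C →ₐ[↥Γ(X, X₁)] TensorProduct ↥Γ(X, X₁) ↥Γ(P0, ⊤) C).toRingHom)
  have hpo : IsPushout (CommRingCat.ofHom (algebraMap ↥Γ(X, X₁) ↥Γ(P0, ⊤))) φC
      (CommRingCat.ofHom (algebraMap ↥Γ(P0, ⊤) D)) qD :=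
    (CommRingCat.isPushout_tensorProduct ↥Γ(X, X₁) ↥Γ(P0, ⊤) C).of_iso (Iso.refl _) (Iso.refl _) (Iso.refl _)
      ε.toRingEquiv.toCommRingCatIso (by simp) (by simp [φC]) (by ext x; exact ε.commutes x) (by ext x; rfl)
  have h1 := (isPullback_SpecMap_of_isPushout _ _ _ _ hpo).flip
  have h2 := h1.paste_vert hpb.flip
  rw [hDR] at h2
  let e := h2.isoPullback
  let a : Dz ⟶ (ProEtS.bcP i).obj V := MorphismProperty.Over.homMk e.hom h2.isoPullback_hom_snd
  let r : (ProEtS.bcP i).obj V ⟶ Dz := MorphismProperty.Over.homMk e.inv h2.isoPullback_inv_snd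
  refine ⟨B, o, Dz, d, V, r, a, ‹IsOpenImmersion oB›, ⟨q', ?_⟩, inferInstanceAs (IsAffine (Spec Bc)),
    inferInstanceAs (IsAffine (Spec (CommRingCat.of D))), ?_, hom_ext_und e.hom_inv_id⟩
  · show (P.affineOpenCover.f j ≫ pullback.fst W.hom c').base q' = w
    exact (congrArg (pullback.fst W.hom c').base hq').trans hq₁
  · haveI := hff
    exact ⟨PrimeSpectrum.comap_surjective_of_faithfullyFlat (A := Bc) (B := D)⟩

theorem bcP_coverDense_of_radicial : (ProEtS.bcP i).IsCoverDense (Scheme.ProEt.topology Z) := by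
  refine ⟨fun W => ?_⟩
  choose B o D d V r a hoi hw hB hD hd har using exists_local_lift i W
  have hmem : Sieve.ofArrows B o ∈ Scheme.ProEt.topology Z W :=
    ofArrows_mem_of_mem (W := W) _ _ (Scheme.zariskiPrecoverage_le_propQCPrecoverage _
      ((Scheme.ofArrows_mem_precoverage_iff _).2 ⟨fun p => ⟨p, hw p⟩, hoi⟩))
  refine GrothendieckTopology.transitive _ hmem _ fun Y h hh => ?_
  obtain ⟨p, c, rfl⟩ := (Sieve.mem_ofArrows_iff _ _ _).1 hh
  rw [Sieve.pullback_comp]
  refine GrothendieckTopology.pullback_stable _ c ?_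
  haveI := hB p
  haveI := hD p
  refine GrothendieckTopology.superset_covering _ ?_ (single_mem (d p) (hd p))
  intro T q hq
  obtain ⟨-, b, rfl⟩ := (Sieve.mem_ofArrows_iff _ _ _).1 hq
  exact ⟨⟨V p, b ≫ a p, r p ≫ d p ≫ o p, by
    rw [Category.assoc, reassoc_of% (har p), ← Category.assoc]⟩⟩

/-- Finitely many affine objects jointly surjecting onto an affine object cover it. -/
theorem finite_affine_mem {S : Scheme.{u}} {W : S.ProEt} [IsAffine W.left] {ι : Type u} [Finite ι]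
    (V : ι → S.ProEt) (g : ∀ k, V k ⟶ W) [∀ k, IsAffine (V k).left]
    (hs : ∀ x : W.left, ∃ k y, (und (g k)).base y = x) :
    Sieve.ofArrows V g ∈ Scheme.ProEt.topology S W := by
  let 𝒱 : Scheme.Cover.{u} (Scheme.precoverage @WeaklyEtale) W.left :=
    { I₀ := ι
      X := fun k => (V k).left
      f := fun k => und (g k)
      mem₀ := by
        rw [Scheme.presieve₀_mem_precoverage_iff]
        exact ⟨fun x => (hs x).imp fun k ⟨y, hy⟩ => ⟨y, hy⟩, fun k => weaklyEtale_und (g k)⟩ }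
  haveI : ∀ k : 𝒱.I₀, QuasiCompact (𝒱.f k) := fun k => inferInstanceAs (QuasiCompact (und (g k)))
  exact ofArrows_mem_of_mem _ _
    ⟨Scheme.presieve₀_mem_qcPrecoverage_iff.2
      (@QuasiCompactCover.of_finite _ _ 𝒱 _ ‹_› ‹Finite ι›), 𝒱.mem₀⟩

theorem mem_of_functorPushforward_mem {U : X.ProEt} {S : Sieve U}
    (h : S.functorPushforward (ProEtS.bcP i) ∈ Scheme.ProEt.topology Z ((ProEtS.bcP i).obj U)) :
    S ∈ Scheme.ProEt.topology X U := by
  have hcov : Sieve.ofArrows (fun V : U.left.affineOpens => openObj U V.1) (fun V => openι U V.1) ∈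
      Scheme.ProEt.topology X U := by
    refine ofArrows_mem_of_mem (W := U) _ _ (Scheme.zariskiPrecoverage_le_propQCPrecoverage _
      ((Scheme.ofArrows_mem_precoverage_iff _).2
        ⟨fun x => ?_, fun V => inferInstanceAs (IsOpenImmersion V.1.ι)⟩))
    obtain ⟨V, hV, hxV, -⟩ := exists_isAffineOpen_mem_and_subset (x := x) (U := ⊤) trivial
    exact ⟨⟨V, hV⟩, ⟨x, hxV⟩, rfl⟩
  refine GrothendieckTopology.transitive _ hcov _ fun Y q hq => ?_
  obtain ⟨⟨U₂, hU₂⟩, c, rfl⟩ := (Sieve.mem_ofArrows_iff _ _ _).1 hq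
  rw [Sieve.pullback_comp]
  refine GrothendieckTopology.pullback_stable _ c ?_
  let U' := openObj U U₂
  let o : U' ⟶ U := openι U U₂
  haveI : IsAffine U'.left := hU₂
  haveI : IsAffine ((ProEtS.bcP i).obj U').left := by
    haveI : IsAffineHom (pullback.fst U'.hom i) := MorphismProperty.pullback_fst (P := @IsAffineHom) _ i inferInstance
    exact @isAffine_of_isAffineHom _ _ (pullback.fst U'.hom i) ‹_› hU₂
  obtain ⟨n, Wk, gk, haff, hmem, -, hsurj⟩ := exists_finite_affine' _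
    (GrothendieckTopology.pullback_stable _ ((ProEtS.bcP i).map o) h)
  choose Pk pk ak hpk hak using hmem
  let t : ∀ k, (Wk k).left ⟶ pullback (und (pk k)) (und o) := fun k =>
    pullback.lift (und (ak k) ≫ pullback.fst (Pk k).hom i) (und (gk k) ≫ pullback.fst U'.hom i) (by
      rw [Category.assoc, Category.assoc, ← bc_map_fst, ← bc_map_fst, ← Category.assoc, ← Category.assoc]
      exact congrArg (fun m => und m ≫ pullback.fst U.hom i) (hak k).symm)
  have hfin : ∀ k, ∃ O : Finset (pullback (und (pk k)) (und o)).affineOpens,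
      ∀ y, ∃ V ∈ O, (t k).base y ∈ (V : (pullback (und (pk k)) (und o)).Opens) := fun k => by
    haveI := haff k
    obtain ⟨O, hO⟩ := (isCompact_range (t k).continuous).elim_finite_subcover
      (fun V : (pullback (und (pk k)) (und o)).affineOpens => ((V : (pullback (und (pk k)) (und o)).Opens) : Set _))
      (fun V => V.1.isOpen) (fun z _ => by
        obtain ⟨V, hV, hzV, -⟩ := exists_isAffineOpen_mem_and_subset (x := z) (U := ⊤) trivial
        exact Set.mem_iUnion.2 ⟨⟨V, hV⟩, hzV⟩)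
    refine ⟨O, fun y => ?_⟩
    obtain ⟨V, hV, hy⟩ := Set.mem_iUnion₂.1 (hO ⟨y, rfl⟩)
    exact ⟨V, hV, hy⟩
  choose O hO using hfin
  let ι := ULift.{u} (Σ k : Fin n, ↥(O k))
  let Vs : ι → X.ProEt := fun p =>
    haveI : WeaklyEtale U'.hom := U'.prop
    haveI : WeaklyEtale (und (pk p.down.1)) := weaklyEtale_und _
    haveI : WeaklyEtale (pullback.snd (und (pk p.down.1)) (und o)) :=
      MorphismProperty.pullback_snd (P := @WeaklyEtale) _ _ ‹_›
    Scheme.ProEt.mk ((p.down.2.1.1.ι ≫ pullback.snd (und (pk p.down.1)) (und o)) ≫ U'.hom)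
  let gs : ∀ p : ι, Vs p ⟶ U' := fun p =>
    MorphismProperty.Over.homMk (p.down.2.1.1.ι ≫ pullback.snd (und (pk p.down.1)) (und o)) rfl
  haveI : ∀ p : ι, IsAffine (Vs p).left := fun p => p.down.2.1.2
  refine GrothendieckTopology.superset_covering _ ?_ (finite_affine_mem Vs gs fun x => ?_)
  · rw [Sieve.generate_le_iff]
    rintro _ _ ⟨p⟩
    let b : Vs p ⟶ Pk p.down.1 :=
      MorphismProperty.Over.homMk (p.down.2.1.1.ι ≫ pullback.fst (und (pk p.down.1)) (und o)) (by
        show _ = (p.down.2.1.1.ι ≫ pullback.snd (und (pk p.down.1)) (und o)) ≫ U'.hom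
        rw [show (Pk p.down.1).hom = und (pk p.down.1) ≫ U.hom from
            (Over.w ((Scheme.ProEt.forget X).map (pk p.down.1))).symm,
          show U'.hom = und o ≫ U.hom from (Over.w ((Scheme.ProEt.forget X).map o)).symm]
        simp only [Category.assoc]
        rw [pullback.condition_assoc])
    have hb : gs p ≫ o = b ≫ pk p.down.1 := hom_ext_und (by
      show (p.down.2.1.1.ι ≫ pullback.snd _ _) ≫ und o = (p.down.2.1.1.ι ≫ pullback.fst _ _) ≫ und (pk p.down.1)
      simp only [Category.assoc, pullback.condition])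
    show S.arrows (gs p ≫ o)
    rw [hb]
    exact S.downward_closed (hpk p.down.1) b
  · haveI : Surjective (pullback.fst U'.hom i) := MorphismProperty.pullback_fst (P := @Surjective) _ i ‹_›
    obtain ⟨z, hz⟩ := (pullback.fst U'.hom i).surjective x
    obtain ⟨k, y, hy⟩ := hsurj z
    obtain ⟨V, hV, hyV⟩ := hO k y
    refine ⟨⟨⟨k, ⟨V, hV⟩⟩⟩, ⟨(t k).base y, hyV⟩, ?_⟩
    show (t k ≫ pullback.snd (und (pk k)) (und o)).base y = x
    rw [pullback.lift_snd]
    exact (congrArg (pullback.fst U'.hom i).base hy).trans hz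

theorem bcP_isDenseSubsite [ProEtS.PCont i] :
    (ProEtS.bcP i).IsDenseSubsite (Scheme.ProEt.topology X) (Scheme.ProEt.topology Z) where
  isCoverDense' := bcP_coverDense_of_radicial i
  isLocallyFull' := bcP_locallyFull_of_radicial i
  isLocallyFaithful' := Groth.Agent.WCSiteLib.bcP_locallyFaithful i
  functorPushforward_mem_iff := fun {U S} => ⟨mem_of_functorPushforward_mem i,
    (CoverPreserving.of_isContinuous (ProEtS.bcP i) _ _).cover_preserve⟩

theorem pushP_isEquivalence [ProEtS.PCont i] : (ProEtS.pushP i).IsEquivalence := by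
  haveI := bcP_isDenseSubsite i
  infer_instance

end UHomeo
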