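import Groth.Agent.UHomeoLib.Lift
import Groth.Agent.S2906

/-!
# Topological invariance along flat quasi-compact surjective radicial morphisms
-/

set_option autoImplicit false
set_option linter.style.haveILetI false
universe u

open CategoryTheory CategoryTheory.Limits AlgebraicGeometry

namespace UHomeo

variable {S S₀ : Scheme.{u}} (g : S₀ ⟶ S)

theorem isSeparated_of_radicial [UniversallyInjective g] : IsSeparated g := by
  haveI : Surjective (pullback.diagonal g) := (UniversallyInjective.iff_diagonal g).mp ‹_›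
  refine ⟨IsClosedImmersion.of_isPreimmersion _ ?_⟩
  rw [(pullback.diagonal g).surjective.range_eq]
  exact isClosed_univ

theorem universallyClosed_of_flat_radicial [Flat g] [Surjective g] [QuasiCompact g] [UniversallyInjective g] :
    UniversallyClosed g := by
  refine ⟨fun X' Y' i₁ i₂ a sq => ?_⟩
  haveI : Flat a := MorphismProperty.of_isPullback (P := @Flat) sq.flip ‹_›
  haveI : Surjective a := MorphismProperty.of_isPullback (P := @Surjective) sq.flip ‹_›
  haveI : QuasiCompact a := MorphismProperty.of_isPullback (P := @QuasiCompact) sq.flip ‹_›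
  haveI : UniversallyInjective a := MorphismProperty.of_isPullback (P := @UniversallyInjective) sq.flip ‹_›
  intro s hs
  rw [← (Flat.isQuotientMap_of_surjective a).isClosed_preimage, Set.preimage_image_eq s a.injective]
  exact hs

theorem exists_liftData_flat [Flat g] [Surjective g] [QuasiCompact g] [UniversallyInjective g]
    {X₀ : Scheme.{u}} (x₀ : X₀ ⟶ S₀) [Etale x₀] (x : X₀) :
    ∃ V : X₀.Opens, x ∈ V ∧ Nonempty (EtInvLib.LiftData g x₀ V) := by
  haveI := isSeparated_of_radicial g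
  obtain ⟨U, hU, hxU, -⟩ := exists_isAffineOpen_mem_and_subset (x := g (x₀ x)) (U := ⊤) trivial
  obtain ⟨V, hV, hxV, hVU⟩ := exists_isAffineOpen_mem_and_subset (x := x) (U := x₀ ⁻¹ᵁ (g ⁻¹ᵁ U)) hxU
  haveI : IsAffine U.toScheme := hU
  haveI : IsAffine V.toScheme := hV
  let g' := g ∣_ U
  haveI : IsSeparated g' := IsZariskiLocalAtTarget.restrict ‹_› U
  haveI : UniversallyInjective g' := IsZariskiLocalAtTarget.restrict ‹_› U
  haveI : Flat g' := IsZariskiLocalAtTarget.restrict ‹_› U
  haveI : Surjective g' := IsZariskiLocalAtTarget.restrict ‹_› U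
  haveI : QuasiCompact g' := IsZariskiLocalAtTarget.restrict ‹_› U
  haveI : (g ⁻¹ᵁ U).toScheme.IsSeparated := by
    refine ⟨?_⟩
    rw [← terminal.comp_from g']
    infer_instance
  let v : V.toScheme ⟶ (g ⁻¹ᵁ U).toScheme := IsOpenImmersion.lift (g ⁻¹ᵁ U).ι (V.ι ≫ x₀) (by
    rw [Scheme.Opens.range_ι]
    rintro _ ⟨y, rfl⟩
    exact hVU y.2)
  have hv : v ≫ (g ⁻¹ᵁ U).ι = V.ι ≫ x₀ := IsOpenImmersion.lift_fac _ _ _
  haveI : Etale (v ≫ (g ⁻¹ᵁ U).ι) := by rw [hv]; infer_instance
  haveI : Etale v := Etale.of_comp v (g ⁻¹ᵁ U).ι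
  haveI : IsSeparated (v ≫ g') := inferInstance
  haveI : IsSeparated v := IsSeparated.of_comp v g'
  haveI : QuasiCompact (v ≫ g') := inferInstance
  haveI : QuasiCompact v := QuasiCompact.of_comp v g'
  let D : Over (g ⁻¹ᵁ U).toScheme := Over.mk v
  haveI : Etale D.hom := ‹_›
  haveI : QuasiCompact (canDD g' D).obj.hom := inferInstanceAs (QuasiCompact v)
  haveI : IsSeparated (canDD g' D).obj.hom := inferInstanceAs (IsSeparated v)
  haveI : Etale (canDD g' D).obj.hom := inferInstanceAs (Etale v)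
  obtain ⟨W, -, -, hW, he⟩ := Groth.Agent.S2906.result g' (canDD g' D)
  obtain ⟨W', c, hW', hc⟩ := exists_of_effective g' D ⟨W, hW, he⟩
  have h2 := hc.paste_vert (isPullback_morphismRestrict g U)
  rw [show D.hom ≫ (g ⁻¹ᵁ U).ι = V.ι ≫ x₀ from hv] at h2
  exact ⟨V, hxV, ⟨⟨_, W'.hom ≫ U.ι, inferInstance, c, h2⟩⟩⟩

end UHomeo
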