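import Groth.Agent.UHomeoLib.Radicial
import Mathlib.RingTheory.Etale.StandardEtale
import Mathlib.RingTheory.FiniteType
import Mathlib.RingTheory.IntegralClosure.Algebra.Basic

/-!
# Noetherian models of integral radicial maps and standard étale algebras over them
-/

set_option autoImplicit false
set_option linter.style.haveILetI false
universe u

open MvPolynomial (eval₂Hom)

noncomputable section

namespace UHomeo

variable {A B : Type u} [CommRing A] [CommRing B]

/-- The two copies of a polynomial in doubled variables. -/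
def dbl (σ : Type u) (R : Type u) [CommRing R] (b : Bool) : MvPolynomial σ R →+* MvPolynomial (σ ⊕ σ) R :=
  (MvPolynomial.rename (cond b Sum.inl Sum.inr : σ → σ ⊕ σ)).toRingHom

theorem map_dbl {σ R R' : Type u} [CommRing R] [CommRing R'] (f : R →+* R') (b : Bool) (x : MvPolynomial σ R) :
    MvPolynomial.map f (dbl σ R b x) = dbl σ R' b (MvPolynomial.map f x) :=
  MvPolynomial.map_rename f _ x

theorem exists_certificate {σ : Type u} (φ : A →+* B) (hrad : Rad φ) (π : MvPolynomial σ A →+* B)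
    (hπ : π.IsIntegral) (hC : π.comp MvPolynomial.C = φ) (j : σ) :
    ∃ (N : ℕ) (c : (RingHom.ker π × Bool) →₀ MvPolynomial (σ ⊕ σ) A),
      (c.sum fun i a => a * dbl σ A i.2 i.1.1) = (MvPolynomial.X (Sum.inl j) - MvPolynomial.X (Sum.inr j)) ^ N := by
  let gen : RingHom.ker π × Bool → MvPolynomial (σ ⊕ σ) A := fun i => dbl σ A i.2 i.1.1
  let J := Ideal.span (Set.range gen)
  have h : MvPolynomial.X (Sum.inl j) - MvPolynomial.X (Sum.inr j) ∈ J.radical := by
    rw [Ideal.radical_eq_sInf]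
    refine Ideal.mem_sInf.mpr fun {q} hq => ?_
    obtain ⟨hJq, hqp⟩ := hq
    haveI := hqp
    let K := AlgebraicClosure (FractionRing (MvPolynomial (σ ⊕ σ) A ⧸ q))
    let w : MvPolynomial (σ ⊕ σ) A →+* K :=
      (algebraMap (FractionRing (MvPolynomial (σ ⊕ σ) A ⧸ q)) K).comp
        ((algebraMap (MvPolynomial (σ ⊕ σ) A ⧸ q) _).comp (Ideal.Quotient.mk q))
    have hw : ∀ x, w x = 0 → x ∈ q := fun x hx =>
      Ideal.Quotient.eq_zero_iff_mem.mp <| IsFractionRing.injective (MvPolynomial (σ ⊕ σ) A ⧸ q)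
        (FractionRing (MvPolynomial (σ ⊕ σ) A ⧸ q)) <| (algebraMap _ K).injective <| by
          rw [map_zero, map_zero]; exact hx
    have hw' : ∀ x ∈ q, w x = 0 := fun x hx => by
      simp only [w, RingHom.coe_comp, Function.comp_apply, Ideal.Quotient.eq_zero_iff_mem.mpr hx, map_zero]
    have hk : ∀ b, RingHom.ker π ≤ RingHom.ker (w.comp (dbl σ A b)) := fun b g hg =>
      hw' _ (hJq (Ideal.subset_span ⟨⟨⟨g, hg⟩, b⟩, rfl⟩))
    obtain ⟨u, hu⟩ := exists_extend π hπ _ (hk true)
    obtain ⟨v, hv⟩ := exists_extend π hπ _ (hk false)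
    have huv : u = v := hrad K u v <| by
      rw [← hC, ← RingHom.comp_assoc, ← RingHom.comp_assoc, hu, hv]
      ext a
      simp [dbl]
    refine hw _ ?_
    rw [map_sub, sub_eq_zero]
    have h1 : w (dbl σ A true (MvPolynomial.X j)) = w (dbl σ A false (MvPolynomial.X j)) := by
      change (w.comp (dbl σ A true)) _ = (w.comp (dbl σ A false)) _
      rw [← hu, ← hv, huv]
    simpa [dbl] using h1
  obtain ⟨N, hN⟩ := Ideal.mem_radical_iff.mp h
  obtain ⟨c, hc⟩ := Finsupp.mem_span_range_iff_exists_finsupp.mp hN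
  exact ⟨N, c, hc⟩

theorem finite_of_monic {σ R S : Type u} [Finite σ] [CommRing R] [CommRing S] [Algebra R S]
    (q : MvPolynomial σ R →ₐ[R] S) (hq : Function.Surjective q) (m : σ → Polynomial R) (hm : ∀ j, (m j).Monic)
    (h : ∀ j, Polynomial.eval₂ (algebraMap R S) (q (MvPolynomial.X j)) (m j) = 0) : Module.Finite R S := by
  haveI : Algebra.FiniteType R S := Algebra.FiniteType.of_surjective q hq
  haveI : Algebra.IsIntegral R S := by
    refine ⟨fun y => ?_⟩
    obtain ⟨x, rfl⟩ := hq y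
    induction x using MvPolynomial.induction_on with
    | C r => exact (q.commutes r).symm ▸ isIntegral_algebraMap
    | add x y hx hy => rw [map_add]; exact hx.add hy
    | mul_X x j hx =>
      rw [map_mul]
      exact hx.mul ⟨m j, hm j, h j⟩
  exact Algebra.IsIntegral.finite

theorem exists_noetherian_model (φ : A →+* B) (hφ : φ.IsIntegral) (hrad : Rad φ)
    (hker : RingHom.ker φ ≤ nilradical A) (P : StandardEtalePair B) :
    ∃ (A₀ B₀ : Type u) (_ : CommRing A₀) (_ : CommRing B₀) (_ : IsNoetherianRing A₀) (φ₀ : A₀ →+* B₀)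
      (a : A₀ →+* A) (b : B₀ →+* B), b.comp φ₀ = φ.comp a ∧ φ₀.Finite ∧ Rad φ₀ ∧
        RingHom.ker φ₀ ≤ nilradical A₀ ∧ ∃ P₀ : StandardEtalePair B₀, P₀.map b = P := by
  classical
  obtain ⟨p₁, p₂, n, hP⟩ := P.cond
  let S : Finset B := P.f.coeffs ∪ P.g.coeffs ∪ p₁.coeffs ∪ p₂.coeffs
  let σ : Type u := ↥S
  let e : MvPolynomial σ ℤ →+* B := (MvPolynomial.aeval (Subtype.val : σ → B)).toRingHom
  have hl : ∀ q : Polynomial B, q.coeffs ⊆ S → q ∈ Polynomial.lifts e := fun q hq => by
    refine (Polynomial.lifts_iff_coeff_lifts _).mpr fun k => ?_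
    rcases eq_or_ne (q.coeff k) 0 with h | h
    · exact ⟨0, by rw [map_zero, h]⟩
    · exact ⟨MvPolynomial.X ⟨q.coeff k, hq (Polynomial.coeff_mem_coeffs h)⟩, by simp [e]⟩
  obtain ⟨F, hF, -, hFm⟩ := Polynomial.lifts_and_natDegree_eq_and_monic
    (hl P.f fun x hx => by simp [S, hx]) P.monic_f
  obtain ⟨G, hG⟩ := (Polynomial.mem_lifts _).mp (hl P.g fun x hx => by simp [S, hx])
  obtain ⟨Q₁, hQ₁⟩ := (Polynomial.mem_lifts _).mp (hl p₁ fun x hx => by simp [S, hx])
  obtain ⟨Q₂, hQ₂⟩ := (Polynomial.mem_lifts _).mp (hl p₂ fun x hx => by simp [S, hx])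
  let E : Polynomial (MvPolynomial σ ℤ) := Polynomial.derivative F * Q₁ + F * Q₂ - G ^ n
  have hE : ∀ k, e (E.coeff k) = 0 := fun k => by
    have h0 : E.map e = 0 := by
      simp only [E, Polynomial.map_sub, Polynomial.map_add, Polynomial.map_mul, Polynomial.map_pow,
        ← Polynomial.derivative_map, hF, hG, hQ₁, hQ₂, hP, sub_self]
    simpa [Polynomial.coeff_map] using congrArg (fun q => Polynomial.coeff q k) h0
  let π : MvPolynomial σ A →+* B := eval₂Hom φ Subtype.val
  have hC : π.comp MvPolynomial.C = φ := RingHom.ext fun x => by simp [π]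
  have hπ : π.IsIntegral := RingHom.IsIntegral.tower_top MvPolynomial.C π (by rw [hC]; exact hφ)
  choose m hm hm0 using fun j : σ => hφ (j : B)
  choose N c hc using fun j : σ => exists_certificate φ hrad π hπ hC j
  let I : Finset (RingHom.ker π × Bool) := Finset.univ.biUnion fun j => (c j).support
  let T : Finset A :=
    (Finset.univ.biUnion fun j => (m j).coeffs) ∪ (I.biUnion fun i => i.1.1.coeffs) ∪
      (Finset.univ.biUnion fun j => (c j).support.biUnion fun i => (c j i).coeffs)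
  let A₀ := Algebra.adjoin ℤ (T : Set A)
  haveI : Algebra.FiniteType ℤ A₀ := (Subalgebra.fg_iff_finiteType _).mp ⟨T, rfl⟩
  haveI : IsNoetherianRing A₀ := Algebra.FiniteType.isNoetherianRing ℤ A₀
  let ι : A₀ →+* A := A₀.val.toRingHom
  have hι : Function.Injective ι := Subtype.val_injective
  have hlift : ∀ {τ : Type u} (x : MvPolynomial τ A), x.coeffs ⊆ T →
      ∃ x₀ : MvPolynomial τ A₀, MvPolynomial.map ι x₀ = x := fun x hx =>
    MvPolynomial.mem_range_map_iff_coeffs_subset.mpr fun a ha =>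
      ⟨⟨a, Algebra.subset_adjoin (hx ha)⟩, rfl⟩
  have hmT : ∀ j, ∃ q : Polynomial A₀, q.map ι = m j ∧ q.Monic := fun j => by
    obtain ⟨q, hq, -, hq'⟩ := Polynomial.lifts_and_natDegree_eq_and_monic (f := ι) (p := m j)
      ((Polynomial.lifts_iff_coeff_lifts _).mpr fun k => by
        rcases eq_or_ne ((m j).coeff k) 0 with h | h
        · exact ⟨0, by rw [map_zero, h]⟩
        · exact ⟨⟨_, Algebra.subset_adjoin (Finset.mem_union_left _ (Finset.mem_union_left _
            (Finset.mem_biUnion.mpr ⟨j, Finset.mem_univ _, Polynomial.coeff_mem_coeffs h⟩)))⟩, rfl⟩)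
      (hm j)
    exact ⟨q, hq, hq'⟩
  choose m₀ hm₀ hm₀' using hmT
  have hgT : ∀ i : I, ∃ g₀ : MvPolynomial σ A₀, MvPolynomial.map ι g₀ = i.1.1.1 := fun i =>
    hlift _ fun a ha => Finset.mem_union_left _ (Finset.mem_union_right _
      (Finset.mem_biUnion.mpr ⟨i.1, i.2, ha⟩))
  choose g₀ hg₀ using hgT
  have hcT : ∀ (j : σ) (i : RingHom.ker π × Bool), ∃ x₀, MvPolynomial.map ι x₀ = c j i := fun j i => by
    by_cases hi : i ∈ (c j).support
    · exact hlift _ fun a ha => Finset.mem_union_right _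
        (Finset.mem_biUnion.mpr ⟨j, Finset.mem_univ _, Finset.mem_biUnion.mpr ⟨i, hi, ha⟩⟩)
    · exact ⟨0, by rw [map_zero, Finsupp.notMem_support_iff.mp hi]⟩
  choose c₀ hc₀ using hcT
  let cz : MvPolynomial σ ℤ →+* MvPolynomial σ A₀ := MvPolynomial.map (Int.castRingHom A₀)
  have hcz : (π.comp (MvPolynomial.map ι)).comp cz = e := by
    refine MvPolynomial.ringHom_ext (fun r => ?_) fun j => ?_ <;> simp [π, cz, e]
  let rel : σ ⊕ (↥I ⊕ ℕ) → MvPolynomial σ A₀ :=
    Sum.elim (fun j => Polynomial.eval₂ MvPolynomial.C (MvPolynomial.X j) (m₀ j))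
      (Sum.elim g₀ fun k => cz (E.coeff k))
  let I₀ : Ideal (MvPolynomial σ A₀) := Ideal.span (Set.range rel)
  have hI₀ : I₀ ≤ RingHom.ker (π.comp (MvPolynomial.map ι)) := by
    refine Ideal.span_le.mpr ?_
    rintro _ ⟨r, rfl⟩
    rcases r with j | i | k
    · show π (MvPolynomial.map ι (Polynomial.eval₂ MvPolynomial.C (MvPolynomial.X j) (m₀ j))) = 0
      have e2 : ((π.comp (MvPolynomial.map ι)).comp MvPolynomial.C) = φ.comp ι := by
        ext x; simp [π]
      rw [← RingHom.comp_apply, Polynomial.hom_eval₂, e2, ← Polynomial.eval₂_map, hm₀]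
      simpa [π] using hm0 j
    · show π (MvPolynomial.map ι (g₀ i)) = 0
      rw [hg₀]
      exact i.1.1.2
    · show π (MvPolynomial.map ι (cz (E.coeff k))) = 0
      exact (RingHom.congr_fun hcz _).trans (hE k)
  let B₀ := MvPolynomial σ A₀ ⧸ I₀
  let φ₀ : A₀ →+* B₀ := (Ideal.Quotient.mk I₀).comp MvPolynomial.C
  let b : B₀ →+* B := Ideal.Quotient.lift I₀ (π.comp (MvPolynomial.map ι)) hI₀
  have hb : b.comp φ₀ = φ.comp ι := RingHom.ext fun x => by
    show π (MvPolynomial.map ι (MvPolynomial.C x)) = φ (ι x)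
    simp [π]
  refine ⟨↥A₀, B₀, inferInstance, inferInstance, inferInstance, φ₀, ι, b, hb, ?_, ?_, ?_, ?_⟩
  · let q : MvPolynomial σ A₀ →ₐ[A₀] B₀ := Ideal.Quotient.mkₐ A₀ I₀
    have hq : Function.Surjective q := Ideal.Quotient.mk_surjective
    refine (RingHom.finite_algebraMap (A := A₀) (B := B₀)).mpr
      (finite_of_monic q hq m₀ hm₀' fun j => ?_)
    show Polynomial.eval₂ φ₀ (Ideal.Quotient.mk I₀ (MvPolynomial.X j)) (m₀ j) = 0
    rw [← Polynomial.hom_eval₂]
    exact Ideal.Quotient.eq_zero_iff_mem.mpr (Ideal.subset_span ⟨Sum.inl j, rfl⟩)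
  · intro K _ u v huv
    refine (RingHom.cancel_right Ideal.Quotient.mk_surjective).mp ?_
    refine MvPolynomial.ringHom_ext (fun r => RingHom.congr_fun huv r) fun j => ?_
    let w : MvPolynomial (σ ⊕ σ) A₀ →+* K := eval₂Hom (u.comp φ₀)
      (Sum.elim (fun i => u (Ideal.Quotient.mk I₀ (MvPolynomial.X i)))
        fun i => v (Ideal.Quotient.mk I₀ (MvPolynomial.X i)))
    have hu : w.comp (dbl σ A₀ true) = u.comp (Ideal.Quotient.mk I₀) :=
      MvPolynomial.ringHom_ext (fun r => by simp [w, dbl, φ₀]) fun i => by simp [w, dbl]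
    have hv : w.comp (dbl σ A₀ false) = v.comp (Ideal.Quotient.mk I₀) :=
      MvPolynomial.ringHom_ext (fun r => by simpa [w, dbl, φ₀] using RingHom.congr_fun huv r)
        fun i => by simp [w, dbl]
    have hid : (∑ i ∈ (c j).support.attach, c₀ j i.1 * dbl σ A₀ i.1.2
        (g₀ ⟨i.1, Finset.mem_biUnion.mpr ⟨j, Finset.mem_univ _, i.2⟩⟩)) =
        (MvPolynomial.X (Sum.inl j) - MvPolynomial.X (Sum.inr j)) ^ N j := by
      apply MvPolynomial.map_injective ι hι
      simp only [map_sum, map_mul, map_pow, map_sub, MvPolynomial.map_X, map_dbl, hc₀, hg₀]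
      rw [← hc j, Finsupp.sum, ← Finset.sum_attach (c j).support]
    have h0 : (w (MvPolynomial.X (Sum.inl j) - MvPolynomial.X (Sum.inr j))) ^ N j = 0 := by
      rw [← map_pow, ← hid, map_sum]
      refine Finset.sum_eq_zero fun i _ => ?_
      have hm : g₀ ⟨i.1, Finset.mem_biUnion.mpr ⟨j, Finset.mem_univ _, i.2⟩⟩ ∈ I₀ :=
        Ideal.subset_span ⟨Sum.inr (Sum.inl _), rfl⟩
      rw [map_mul]
      rcases i.1.2 with _ | _
      · rw [← RingHom.comp_apply w (dbl σ A₀ false), hv, RingHom.comp_apply,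
          Ideal.Quotient.eq_zero_iff_mem.mpr hm, map_zero, mul_zero]
      · rw [← RingHom.comp_apply w (dbl σ A₀ true), hu, RingHom.comp_apply,
          Ideal.Quotient.eq_zero_iff_mem.mpr hm, map_zero, mul_zero]
    have h1 := (pow_eq_zero_iff'.mp h0).1
    simpa [w, sub_eq_zero] using h1
  · intro x hx
    have h1 : φ (ι x) = 0 := by
      rw [← RingHom.comp_apply, ← hb, RingHom.comp_apply, RingHom.mem_ker.mp hx, map_zero]
    exact mem_nilradical.mpr ((IsNilpotent.map_iff hι).mp (mem_nilradical.mp (hker h1)))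
  · let θ : MvPolynomial σ ℤ →+* B₀ := (Ideal.Quotient.mk I₀).comp cz
    have hθ : b.comp θ = e := RingHom.ext fun x => by
      show π (MvPolynomial.map ι (cz x)) = e x
      exact RingHom.congr_fun hcz x
    have hE0 : E.map θ = 0 := Polynomial.ext fun k => by
      rw [Polynomial.coeff_map, Polynomial.coeff_zero]
      exact Ideal.Quotient.eq_zero_iff_mem.mpr (Ideal.subset_span ⟨Sum.inr (Sum.inr k), rfl⟩)
    refine ⟨⟨F.map θ, hFm.map θ, G.map θ, Q₁.map θ, Q₂.map θ, n, ?_⟩, ?_⟩
    · rw [← sub_eq_zero, ← hE0]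
      simp only [E, Polynomial.map_sub, Polynomial.map_add, Polynomial.map_mul, Polynomial.map_pow,
        Polynomial.derivative_map]
    · obtain ⟨f, hf, g, hg⟩ := P
      simp only [StandardEtalePair.map, StandardEtalePair.mk.injEq, Polynomial.map_map, hθ]
      exact ⟨hF, hG⟩

end UHomeo
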