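import Groth.Agent.UHomeoLib.Approx
import Groth.Agent.EtInvLib.Sections
import Groth.Agent.S2905
import Groth.Prelude.Def_Desc
import Mathlib.AlgebraicGeometry.Morphisms.Separated

/-!
# The descent datum of an étale scheme along a universal homeomorphism
-/

set_option autoImplicit false
set_option linter.style.haveILetI false
universe u

open CategoryTheory CategoryTheory.Limits AlgebraicGeometry EtInvLib

noncomputable section

namespace UHomeo

variable {S S₀ : Scheme.{u}} (i : S₀ ⟶ S) [IsSeparated i] [UniversallyInjective i]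

/-- The locus where two points of the source agree. -/
def eqObj {T : Scheme.{u}} (x₀ x₁ : T ⟶ S₀) (h : x₀ ≫ i = x₁ ≫ i) : Scheme.{u} :=
  pullback (pullback.lift x₀ x₁ h) (pullback.diagonal i)

/-- Its inclusion. -/
def eqι {T : Scheme.{u}} (x₀ x₁ : T ⟶ S₀) (h : x₀ ≫ i = x₁ ≫ i) : eqObj i x₀ x₁ h ⟶ T :=
  pullback.fst _ _

instance {T : Scheme.{u}} (x₀ x₁ : T ⟶ S₀) (h : x₀ ≫ i = x₁ ≫ i) : IsClosedImmersion (eqι i x₀ x₁ h) :=
  MorphismProperty.pullback_fst (P := @IsClosedImmersion) _ _ inferInstance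

instance {T : Scheme.{u}} (x₀ x₁ : T ⟶ S₀) (h : x₀ ≫ i = x₁ ≫ i) : Surjective (eqι i x₀ x₁ h) :=
  MorphismProperty.pullback_fst (P := @Surjective) _ _ ((UniversallyInjective.iff_diagonal i).mp ‹_›)

theorem eqι_eq {T : Scheme.{u}} (x₀ x₁ : T ⟶ S₀) (h : x₀ ≫ i = x₁ ≫ i) :
    eqι i x₀ x₁ h ≫ x₀ = eqι i x₀ x₁ h ≫ x₁ := by
  have e := pullback.condition (f := pullback.lift x₀ x₁ h) (g := pullback.diagonal i)
  have e0 := congrArg (· ≫ pullback.fst i i) e
  have e1 := congrArg (· ≫ pullback.snd i i) e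
  simp only [Category.assoc, pullback.lift_fst, pullback.lift_snd, pullback.diagonal_fst,
    pullback.diagonal_snd] at e0 e1
  exact e0.trans e1.symm

variable (V : Over S₀) [Etale V.hom]

theorem exists_transport {T : Scheme.{u}} (x₀ x₁ : T ⟶ S₀) (h : x₀ ≫ i = x₁ ≫ i) (v : Desc.Lifts V x₀) :
    ∃ b : Desc.Lifts V x₁, eqι i x₀ x₁ h ≫ b.1 = eqι i x₀ x₁ h ≫ v.1 := by
  obtain ⟨b, ⟨hb, hbf⟩, -⟩ := existsUnique_hom V.hom x₁ (eqι i x₀ x₁ h) (eqι i x₀ x₁ h ≫ v.1) (by
    exact (Category.assoc _ _ _).trans ((congrArg (_ ≫ ·) v.2).trans (eqι_eq i x₀ x₁ h)))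
  exact ⟨⟨b, hbf⟩, hb⟩

/-- The transported point. -/
def transport {T : Scheme.{u}} (x₀ x₁ : T ⟶ S₀) (h : x₀ ≫ i = x₁ ≫ i) (v : Desc.Lifts V x₀) :
    Desc.Lifts V x₁ :=
  (exists_transport i V x₀ x₁ h v).choose

/-- The transported point agrees with the original one wherever the two base points agree. -/
theorem transport_spec {T T' : Scheme.{u}} (x₀ x₁ : T ⟶ S₀) (h : x₀ ≫ i = x₁ ≫ i) (v : Desc.Lifts V x₀)
    (t : T' ⟶ T) (ht : t ≫ x₀ = t ≫ x₁) : t ≫ (transport i V x₀ x₁ h v).1 = t ≫ v.1 := by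
  let l : T' ⟶ eqObj i x₀ x₁ h := pullback.lift t (t ≫ x₀) (pullback.hom_ext
    (by simp only [Category.assoc, pullback.lift_fst, pullback.diagonal_fst, Category.comp_id])
    (by simp only [Category.assoc, pullback.lift_snd, pullback.diagonal_snd, Category.comp_id]; exact ht.symm))
  have hl : l ≫ eqι i x₀ x₁ h = t := pullback.lift_fst _ _ _
  rw [← hl, Category.assoc, Category.assoc]
  exact congrArg (l ≫ ·) (exists_transport i V x₀ x₁ h v).choose_spec

omit [IsSeparated i] [UniversallyInjective i] in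
theorem lifts_ext {T T' : Scheme.{u}} {x : T ⟶ S₀} (t : T' ⟶ T) [Surjective t] (a b : Desc.Lifts V x)
    (h : t ≫ a.1 = t ≫ b.1) : a = b :=
  Subtype.ext (hom_eq V.hom t (a.2.trans b.2.symm) h)

/-- The descent datum. -/
def canDD : Desc.SchDD i where
  obj := V
  φ T x₀ x₁ h :=
    { toFun := transport i V x₀ x₁ h
      invFun := transport i V x₁ x₀ h.symm
      left_inv := fun v => lifts_ext V (eqι i x₀ x₁ h) _ _ (by
        rw [transport_spec i V x₁ x₀ h.symm _ _ (eqι_eq i x₀ x₁ h).symm,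
          transport_spec i V x₀ x₁ h _ _ (eqι_eq i x₀ x₁ h)])
      right_inv := fun v => lifts_ext V (eqι i x₀ x₁ h) _ _ (by
        rw [transport_spec i V x₀ x₁ h _ _ (eqι_eq i x₀ x₁ h),
          transport_spec i V x₁ x₀ h.symm _ _ (eqι_eq i x₀ x₁ h).symm]) }
  φ_natural T T' g x₀ x₁ h h' v v' hv' := by
    have e := eqι_eq i (g ≫ x₀) (g ≫ x₁) h'
    refine hom_eq V.hom (eqι i (g ≫ x₀) (g ≫ x₁) h') ?_ ?_
    · exact (transport i V _ _ h' v').2.trans
        ((congrArg (g ≫ ·) (transport i V x₀ x₁ h v).2).symm.trans (Category.assoc _ _ _).symm)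
    · show _ ≫ (transport i V (g ≫ x₀) (g ≫ x₁) h' v').1 = _ ≫ g ≫ (transport i V x₀ x₁ h v).1
      rw [transport_spec i V _ _ h' v' _ e, hv', ← Category.assoc _ g, ← Category.assoc _ g,
        transport_spec i V x₀ x₁ h v _ (by rw [Category.assoc, Category.assoc]; exact e)]
  φ_self T x v := lifts_ext V (𝟙 T) _ _ (transport_spec i V x x rfl v (𝟙 T) rfl)
  φ_comp T x₀ x₁ x₂ h₀₁ h₁₂ v := by
    let e := eqι i x₀ x₁ h₀₁
    let e' := eqι i (e ≫ x₁) (e ≫ x₂) (by rw [Category.assoc, Category.assoc, h₁₂])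
    have a01 : (e' ≫ e) ≫ x₀ = (e' ≫ e) ≫ x₁ :=
      (Category.assoc e' e x₀).trans ((congrArg (e' ≫ ·) (eqι_eq i x₀ x₁ h₀₁)).trans (Category.assoc e' e x₁).symm)
    have a12 : (e' ≫ e) ≫ x₁ = (e' ≫ e) ≫ x₂ :=
      (Category.assoc e' e x₁).trans ((eqι_eq i (e ≫ x₁) (e ≫ x₂) _).trans (Category.assoc e' e x₂).symm)
    refine lifts_ext V (e' ≫ e) _ _ ?_
    show (e' ≫ e) ≫ (transport i V x₁ x₂ h₁₂ (transport i V x₀ x₁ h₀₁ v)).1 =
      (e' ≫ e) ≫ (transport i V x₀ x₂ (h₀₁.trans h₁₂) v).1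
    rw [transport_spec i V x₁ x₂ h₁₂ _ _ a12, transport_spec i V x₀ x₁ h₀₁ v _ a01,
      transport_spec i V x₀ x₂ _ v _ (a01.trans a12)]

/-- An effective canonical datum gives a cartesian lift. -/
theorem exists_of_effective
    (h : ∃ U : Over S, Etale U.hom ∧ Nonempty ((Desc.toDD i).obj U ≅ canDD i V)) :
    ∃ (U : Over S) (c : V.left ⟶ U.left), Etale U.hom ∧ IsPullback c V.hom U.hom i := by
  obtain ⟨U, hU, ⟨e⟩⟩ := h
  let f : Over.mk (pullback.fst i U.hom) ⟶ V := e.hom.hom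
  let g : V ⟶ Over.mk (pullback.fst i U.hom) := e.inv.hom
  have hgf : g ≫ f = 𝟙 V := congrArg Desc.SchDD.Hom.hom e.inv_hom_id
  have hfg : f ≫ g = 𝟙 _ := congrArg Desc.SchDD.Hom.hom e.hom_inv_id
  let e' : V.left ≅ pullback i U.hom := ⟨g.left, f.left, congrArg CommaMorphism.left hgf, congrArg CommaMorphism.left hfg⟩
  refine ⟨U, e'.hom ≫ pullback.snd i U.hom, hU, ?_⟩
  exact (IsPullback.of_hasPullback i U.hom).flip.of_iso e'.symm (Iso.refl _) (Iso.refl _) (Iso.refl _)
    (by simp) (by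
      simp only [Iso.symm_hom, Iso.refl_hom, Category.comp_id]
      exact (Over.w f).symm) (by simp) (by simp)

/-- Étale schemes over the source of a finite universal homeomorphism of Noetherian schemes descend. -/
theorem exists_descended [IsLocallyNoetherian S] [IsFinite i] [Surjective i] [QuasiCompact V.hom]
    [IsSeparated V.hom] :
    ∃ (U : Over S) (c : V.left ⟶ U.left), Etale U.hom ∧ IsPullback c V.hom U.hom i := by
  have hi : SGA1.UnivSubmersive i := fun X' Y' i₁ i₂ a sq => by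
    haveI : IsFinite a := MorphismProperty.of_isPullback (P := @IsFinite) sq.flip ‹_›
    haveI : Surjective a := MorphismProperty.of_isPullback (P := @Surjective) sq.flip ‹_›
    exact a.isClosedMap.isQuotientMap a.continuous a.surjective
  haveI : QuasiCompact (canDD i V).obj.hom := inferInstanceAs (QuasiCompact V.hom)
  haveI : IsSeparated (canDD i V).obj.hom := inferInstanceAs (IsSeparated V.hom)
  haveI : Etale (canDD i V).obj.hom := inferInstanceAs (Etale V.hom)
  obtain ⟨U, -, -, hU, he⟩ := Groth.Agent.S2905.result i hi (canDD i V)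
  exact exists_of_effective i V ⟨U, hU, he⟩

end UHomeo
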