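import Groth.Agent.UHomeoLib.Lift
import Groth.Agent.IndEtQuotLib.Basic
import Groth.Agent.ChevLib.Main

/-!
# Ind-étale algebras lift along universal homeomorphisms
-/

set_option autoImplicit false
set_option linter.style.haveILetI false
set_option backward.isDefEq.respectTransparency false
universe u

open CategoryTheory CategoryTheory.Limits AlgebraicGeometry TensorProduct

noncomputable section

namespace UHomeo

variable {A R : Type u} [CommRing A] [CommRing R] [Algebra A R]
  [IsIntegralHom (Spec.map (CommRingCat.ofHom (algebraMap A R)))]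
  [UniversallyInjective (Spec.map (CommRingCat.ofHom (algebraMap A R)))]
  [Surjective (Spec.map (CommRingCat.ofHom (algebraMap A R)))]

theorem isPullback_tensor (W : Type u) [CommRing W] [Algebra A W] :
    IsPullback (Spec.map (CommRingCat.ofHom (Algebra.TensorProduct.includeRight : W →ₐ[A] R ⊗[A] W).toRingHom))
      (Spec.map (CommRingCat.ofHom (algebraMap R (R ⊗[A] W))))
      (Spec.map (CommRingCat.ofHom (algebraMap A W))) (Spec.map (CommRingCat.ofHom (algebraMap A R))) :=
  (isPullback_SpecMap_of_isPushout _ _ _ _ (CommRingCat.isPushout_tensorProduct A R W)).flip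

theorem exists_algHom_lift {U W : Type u} [CommRing U] [CommRing W] [Algebra A U] [Algebra A W]
    [Algebra.Etale A U] (θ : U →ₐ[A] R ⊗[A] W) :
    ∃ g : U →ₐ[A] W, (Algebra.TensorProduct.includeRight : W →ₐ[A] R ⊗[A] W).comp g = θ := by
  let j := Spec.map (CommRingCat.ofHom (Algebra.TensorProduct.includeRight : W →ₐ[A] R ⊗[A] W).toRingHom)
  have hp := isPullback_tensor (A := A) (R := R) W
  haveI : IsIntegralHom j := MorphismProperty.of_isPullback (P := @IsIntegralHom) hp.flip ‹_›
  haveI : UniversallyInjective j := MorphismProperty.of_isPullback (P := @UniversallyInjective) hp.flip ‹_›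
  haveI : Surjective j := MorphismProperty.of_isPullback (P := @Surjective) hp.flip ‹_›
  haveI : Etale (Spec.map (CommRingCat.ofHom (algebraMap A U))) :=
    HasRingHomProperty.Spec_iff.mpr (RingHom.etale_algebraMap.mpr inferInstance)
  obtain ⟨b, ⟨hb₁, hb₂⟩, -⟩ := EtInvLib.existsUnique_hom (Spec.map (CommRingCat.ofHom (algebraMap A U)))
    (Spec.map (CommRingCat.ofHom (algebraMap A W))) j (Spec.map (CommRingCat.ofHom θ.toRingHom)) (by
      rw [← Spec.map_comp, ← Spec.map_comp]
      congr 1
      ext a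
      exact (θ.commutes a).trans
        ((Algebra.TensorProduct.includeRight : W →ₐ[A] R ⊗[A] W).commutes a).symm)
  obtain ⟨g, rfl⟩ := Spec.map_surjective b
  rw [← Spec.map_comp] at hb₁ hb₂
  have h1 := Spec.map_injective hb₁
  have h2 := Spec.map_injective hb₂
  refine ⟨{ g.hom with commutes' := fun a => ConcreteCategory.congr_hom h2 a }, AlgHom.ext fun u => ?_⟩
  exact ConcreteCategory.congr_hom h1 u

theorem exists_algebra_lift (Q : Type u) [CommRing Q] [Algebra R Q] [Algebra.Etale R Q] :
    ∃ (W : Type u) (_ : CommRing W) (_ : Algebra A W), Algebra.Etale A W ∧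
      Nonempty ((R ⊗[A] W) ≃ₐ[R] Q) := by
  let i := Spec.map (CommRingCat.ofHom (algebraMap A R))
  let x₀ := Spec.map (CommRingCat.ofHom (algebraMap R Q))
  haveI : Etale x₀ := HasRingHomProperty.Spec_iff.mpr (RingHom.etale_algebraMap.mpr inferInstance)
  obtain ⟨X, p, Φ, hp, hΦ⟩ := EtInvLib.exists_lift_of_local (fun x => exists_liftData i x₀ x)
  haveI : IsIntegralHom Φ := MorphismProperty.of_isPullback (P := @IsIntegralHom) hΦ.flip ‹_›
  haveI : Surjective Φ := MorphismProperty.of_isPullback (P := @Surjective) hΦ.flip ‹_›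
  haveI : IsAffine X := ChevLib.isAffine_of_surjective_universallyClosed Φ
  obtain ⟨φ, hφ⟩ := Spec.map_surjective (X.isoSpec.inv ≫ p)
  haveI : Etale (Spec.map φ) := by rw [hφ]; infer_instance
  have het : φ.hom.Etale := HasRingHomProperty.Spec_iff.mp (inferInstance : Etale (Spec.map φ))
  letI : Algebra A ↥Γ(X, ⊤) := φ.hom.toAlgebra
  haveI : Algebra.Etale A ↥Γ(X, ⊤) := RingHom.etale_algebraMap.mp het
  have h1 : IsPullback (Φ ≫ X.isoSpec.hom) x₀ (Spec.map φ) i :=
    hΦ.of_iso (Iso.refl _) X.isoSpec (Iso.refl _) (Iso.refl _) (by simp) (by simp) (by simp [hφ]) (by simp)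
  have h2 := isPullback_tensor (A := A) (R := R) ↥Γ(X, ⊤)
  let e := h1.isoIsPullback _ _ h2
  obtain ⟨f, hf⟩ := Spec.map_surjective e.hom
  obtain ⟨f', hf'⟩ := Spec.map_surjective e.inv
  let E : CommRingCat.of (R ⊗[A] ↥Γ(X, ⊤)) ≅ CommRingCat.of Q :=
    { hom := f
      inv := f'
      hom_inv_id := Spec.map_injective (by rw [Spec.map_comp, hf, hf', Iso.inv_hom_id, Spec.map_id])
      inv_hom_id := Spec.map_injective (by rw [Spec.map_comp, hf, hf', Iso.hom_inv_id, Spec.map_id]) }
  have hR : CommRingCat.ofHom (algebraMap R (R ⊗[A] ↥Γ(X, ⊤))) ≫ f = CommRingCat.ofHom (algebraMap R Q) :=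
    Spec.map_injective (by rw [Spec.map_comp, hf]; exact h1.isoIsPullback_hom_snd _ _ h2)
  exact ⟨↥Γ(X, ⊤), inferInstance, inferInstance, ‹_›,
    ⟨AlgEquiv.ofRingEquiv (f := E.commRingCatIsoToRingEquiv) fun r => ConcreteCategory.congr_hom hR r⟩⟩

open HenselBranchLib Groth.Agent.IndEtQuotLib

set_option maxHeartbeats 1000000 in
/-- Ind-étale algebras lift along universal homeomorphisms. -/
theorem exists_indEtale_lift (D : Type u) [CommRing D] [Algebra R D] (h : EtPBC.IsIndEtale R D) :
    ∃ (C : Type u) (_ : CommRing C) (_ : Algebra A C),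
      EtPBC.IsIndEtale A C ∧ Nonempty ((R ⊗[A] C) ≃ₐ[R] D) := by
  letI : Algebra A D := ((algebraMap R D).comp (algebraMap A R)).toAlgebra
  haveI : IsScalarTower A R D := IsScalarTower.of_algebraMap_eq fun _ => rfl
  haveI := isFiltered_etObj (A := A) (Cb := D)
  let F : EtObj A D ⥤ CommRingCat.{u} :=
    { obj := fun j => CommRingCat.of j.U
      map := fun f => CommRingCat.ofHom f.1.toRingHom }
  let C := colimit F
  let j₀ : EtObj A D := IsFiltered.nonempty.some
  letI : Algebra A C := ((colimit.ι F j₀).hom.comp (algebraMap A j₀.U)).toAlgebra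
  have hcomm : ∀ (j : EtObj A D) (a : A), (colimit.ι F j).hom (algebraMap A j.U a) = algebraMap A C a := by
    intro j a
    let k := IsFiltered.max j₀ j
    let f := IsFiltered.leftToMax j₀ j
    let g := IsFiltered.rightToMax j₀ j
    show _ = (colimit.ι F j₀).hom (algebraMap A j₀.U a)
    have e1 : (colimit.ι F k).hom (g.1 (algebraMap A j.U a)) = (colimit.ι F j).hom (algebraMap A j.U a) :=
      ConcreteCategory.congr_hom (colimit.w F g) _
    have e2 : (colimit.ι F k).hom (f.1 (algebraMap A j₀.U a)) = (colimit.ι F j₀).hom (algebraMap A j₀.U a) :=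
      ConcreteCategory.congr_hom (colimit.w F f) _
    rw [← e1, ← e2, AlgHom.commutes, AlgHom.commutes]
  let ι : ∀ j : EtObj A D, j.U →ₐ[A] C := fun j => { (colimit.ι F j).hom with commutes' := hcomm j }
  have hι : ∀ {i j : EtObj A D} (f : i ⟶ j) (x : i.U), ι j (f.1 x) = ι i x := fun f x =>
    ConcreteCategory.congr_hom (colimit.w F f) x
  let cc : Cocone F := ⟨CommRingCat.of D,
    { app := fun j => CommRingCat.ofHom j.hom.toRingHom
      naturality := fun i j f => by ext x; exact AlgHom.congr_fun f.2 x }⟩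
  let Φ : C →ₐ[A] D :=
    { (colimit.desc F cc).hom with
      commutes' := fun a => (ConcreteCategory.congr_hom (colimit.ι_desc cc j₀) _).trans (j₀.hom.commutes a) }
  have hΦ : ∀ j x, Φ (ι j x) = j.hom x := fun j x => ConcreteCategory.congr_hom (colimit.ι_desc cc j) x
  have hind : EtPBC.IsIndEtale A C := by
    rw [IndEtLib.isIndEtale_iff]
    refine ⟨EtObj A D, inferInstance, inferInstance, F,
      { app := fun j => CommRingCat.ofHom (algebraMap A j.U)
        naturality := fun i j f => by ext r; exact (f.1.commutes r).symm },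
      (colimit.cocone F).ι, colimit.isColimit F, fun j => ⟨?_, ?_⟩⟩
    · haveI := j.etale_U
      exact RingHom.etale_algebraMap.2 inferInstance
    · ext r
      exact hcomm j r
  let Ψ : R ⊗[A] C →ₐ[R] D :=
    Algebra.TensorProduct.lift (Algebra.ofId R D) Φ fun _ _ => Commute.all _ _
  let mR : ∀ {U W : Type u} [CommRing U] [CommRing W] [Algebra A U] [Algebra A W],
      (U →ₐ[A] W) → (R ⊗[A] U →ₐ[R] R ⊗[A] W) := fun g =>
    Algebra.TensorProduct.map (AlgHom.id R R) g
  have hΨι : ∀ (j : EtObj A D) (z : R ⊗[A] j.U),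
      Ψ (mR (ι j) z) = Algebra.TensorProduct.lift (Algebra.ofId R D) j.hom (fun _ _ => Commute.all _ _) z := by
    intro j z
    induction z using TensorProduct.induction_on with
    | zero => simp
    | tmul r x => simp [Ψ, mR, hΦ]
    | add x y hx hy => simp [map_add, hx, hy]
  have hrep : ∀ z : R ⊗[A] C, ∃ (j : EtObj A D) (z' : R ⊗[A] j.U), mR (ι j) z' = z := by
    intro z
    induction z using TensorProduct.induction_on with
    | zero => exact ⟨j₀, 0, map_zero _⟩
    | tmul r x =>
      obtain ⟨j, y, rfl⟩ := Concrete.colimit_exists_rep F x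
      exact ⟨j, r ⊗ₜ y, rfl⟩
    | add x y hx hy =>
      obtain ⟨i, x', rfl⟩ := hx
      obtain ⟨j, y', rfl⟩ := hy
      have hm : ∀ {i k : EtObj A D} (f : i ⟶ k) (z : R ⊗[A] i.U), mR (ι k) (mR f.1 z) = mR (ι i) z := by
        intro i k f z
        induction z using TensorProduct.induction_on with
        | zero => simp
        | tmul r x => simp [mR, hι f]
        | add x y hx hy => simp [map_add, hx, hy]
      exact ⟨IsFiltered.max i j, mR (IsFiltered.leftToMax i j).1 x' + mR (IsFiltered.rightToMax i j).1 y',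
        by rw [map_add, hm, hm]⟩
  obtain ⟨J, _, _, G, t, s, hs, hts⟩ := (IndEtLib.isIndEtale_iff R D).1 h
  have stage : ∀ j : J, ∃ (k : EtObj A D), ∀ q : G.obj j, ∃ z, Ψ (mR (ι k) z) = (s.app j).hom q := by
    intro j
    letI : Algebra R (G.obj j) := (t.app j).hom.toAlgebra
    haveI : Algebra.Etale R (G.obj j) := (hts j).1
    obtain ⟨W, _, _, hW, ⟨e⟩⟩ := exists_algebra_lift (A := A) (R := R) (G.obj j)
    let sQ : (G.obj j : Type u) →ₐ[R] D :=
      { (s.app j).hom with commutes' := fun r => ConcreteCategory.congr_hom (hts j).2 r }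
    obtain ⟨k, E, hE⟩ := exists_obj (((sQ.comp e.toAlgHom).restrictScalars A).comp
      (Algebra.TensorProduct.includeRight : W →ₐ[A] R ⊗[A] W))
    refine ⟨k, fun q => ⟨mR E.toAlgHom (e.symm q), ?_⟩⟩
    rw [hΨι]
    have : (Algebra.TensorProduct.lift (Algebra.ofId R D) k.hom fun _ _ => Commute.all _ _).comp (mR E.toAlgHom) =
        sQ.comp e.toAlgHom := Algebra.TensorProduct.ext (Algebra.ext_id ..) (AlgHom.ext fun w => by
      simpa [mR] using AlgHom.congr_fun hE w)
    exact (AlgHom.congr_fun this (e.symm q)).trans (congrArg sQ (e.apply_symm_apply q))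
  have hsurj : Function.Surjective Ψ := by
    intro y
    obtain ⟨j, q, rfl⟩ := Types.jointly_surjective_of_isColimit (isColimitOfPreserves (forget CommRingCat) hs) y
    obtain ⟨k, hk⟩ := stage j
    obtain ⟨z, hz⟩ := hk q
    exact ⟨_, hz⟩
  have hinj : Function.Injective Ψ := by
    rw [injective_iff_map_eq_zero]
    intro z hz
    obtain ⟨i, z', rfl⟩ := hrep z
    rw [hΨι] at hz
    haveI := i.etale_U
    let πV : R ⊗[A] i.U →ₐ[R] D := Algebra.TensorProduct.lift (Algebra.ofId R D) i.hom fun _ _ => Commute.all _ _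
    obtain ⟨j₁, ψ₀, hψ₀, hψ₀t⟩ := exists_factor G t s hs (fun j => (hts j).2) πV
    obtain ⟨j, w, w', hww⟩ := (Types.FilteredColimit.isColimit_eq_iff _ (isColimitOfPreserves (forget CommRingCat) hs)
      (xi := ψ₀ z') (j := j₁) (xj := (0 : G.obj j₁))).1 (by
        show (s.app j₁).hom (ψ₀ _) = (s.app j₁).hom 0
        rw [hψ₀, map_zero]
        exact hz)
    letI : Algebra R (G.obj j) := (t.app j).hom.toAlgebra
    haveI : Algebra.Etale R (G.obj j) := (hts j).1
    let sQ : (G.obj j : Type u) →ₐ[R] D :=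
      { (s.app j).hom with commutes' := fun r => ConcreteCategory.congr_hom (hts j).2 r }
    let η : R ⊗[A] i.U →ₐ[R] (G.obj j : Type u) :=
      { (G.map w).hom.comp ψ₀ with
        commutes' := fun r => by
          show (G.map w).hom (ψ₀ (algebraMap R _ r)) = _
          rw [hψ₀t]
          exact (ConcreteCategory.congr_hom (t.naturality w) r).symm }
    have hη0 : η z' = 0 := hww.trans (map_zero (G.map w').hom)
    have hsη : ∀ x, sQ (η x) = πV x := fun x =>
      (ConcreteCategory.congr_hom (s.naturality w) (ψ₀ x)).trans (hψ₀ x)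
    obtain ⟨W, _, _, hW, ⟨e⟩⟩ := exists_algebra_lift (A := A) (R := R) (G.obj j)
    obtain ⟨g, hg⟩ := exists_algHom_lift (((e.symm.toAlgHom.comp η).restrictScalars A).comp
      (Algebra.TensorProduct.includeRight : i.U →ₐ[A] R ⊗[A] i.U))
    obtain ⟨k, E, hE⟩ := exists_obj (((sQ.comp e.toAlgHom).restrictScalars A).comp
      (Algebra.TensorProduct.includeRight : W →ₐ[A] R ⊗[A] W))
    have hf : k.hom.comp (E.toAlgHom.comp g) = i.hom := by
      refine AlgHom.ext fun u => ?_
      have h1 := AlgHom.congr_fun hE (g u)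
      have h2 := AlgHom.congr_fun hg u
      simp at h1 h2
      show k.hom (E (g u)) = i.hom u
      rw [h1, h2, e.apply_symm_apply, hsη]
      simp [πV]
    let f : i ⟶ k := ⟨E.toAlgHom.comp g, hf⟩
    have hgz : mR g z' = e.symm.toAlgHom (η z') := by
      have : mR g = e.symm.toAlgHom.comp η := Algebra.TensorProduct.ext (Algebra.ext_id ..) (AlgHom.ext fun u => by
        simpa [mR] using AlgHom.congr_fun hg u)
      exact AlgHom.congr_fun this z'
    have hfz : mR f.1 z' = mR E.toAlgHom (mR g z') := by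
      have : mR f.1 = (mR E.toAlgHom).comp (mR g) := Algebra.TensorProduct.ext (Algebra.ext_id ..) (AlgHom.ext fun u => by simp [mR, f])
      exact AlgHom.congr_fun this z'
    have hmf : mR (ι k) (mR f.1 z') = mR (ι i) z' := by
      have : (mR (ι k)).comp (mR f.1) = mR (ι i) := Algebra.TensorProduct.ext (Algebra.ext_id ..) (AlgHom.ext fun u => by simp [mR, hι f])
      exact AlgHom.congr_fun this z'
    rw [← hmf, hfz, hgz, hη0, map_zero, map_zero, map_zero]
  exact ⟨C, inferInstance, inferInstance, hind, ⟨AlgEquiv.ofBijective Ψ ⟨hinj, hsurj⟩⟩⟩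

end UHomeo
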